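import Mathlib
import Groth.Agent.CommAlgDim.Regular
import Groth.Agent.RegUFDLib.Basic

/-!
# Regular divisors in regular local rings
-/

set_option autoImplicit false

universe u

open IsLocalRing

namespace PurMuLib

variable {R : Type u} [CommRing R]

/-- A parameter is prime. -/
theorem prime_of_notMem_sq [IsRegularLocalRing R] {x : R} (hx : x ∈ maximalIdeal R)
    (hx2 : x ∉ (maximalIdeal R) ^ 2) : Prime x := by
  haveI := CommAlgDim.isDomain_of_isRegularLocalRing R
  haveI := RegUFDLib.uniqueFactorizationMonoid R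
  rw [← UniqueFactorizationMonoid.irreducible_iff_prime]
  refine ⟨(mem_maximalIdeal _).1 hx, fun {a b} hab => ?_⟩
  by_contra h
  push Not at h
  refine hx2 ?_
  rw [hab, pow_two]
  exact Ideal.mul_mem_mul ((mem_maximalIdeal _).2 h.1) ((mem_maximalIdeal _).2 h.2)

/-- An ideal cutting out a regular quotient of codimension one is generated by a parameter. -/
theorem exists_param [IsRegularLocalRing R] (I : Ideal R) [IsRegularLocalRing (R ⧸ I)]
    (hd : ringKrullDim R = ringKrullDim (R ⧸ I) + 1) :
    ∃ x : R, I = Ideal.span {x} ∧ x ∈ maximalIdeal R ∧ x ∉ (maximalIdeal R) ^ 2 := by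
  haveI := CommAlgDim.isDomain_of_isRegularLocalRing R
  haveI := RegUFDLib.uniqueFactorizationMonoid R
  haveI := CommAlgDim.isDomain_of_isRegularLocalRing (R ⧸ I)
  haveI hI : I.IsPrime := (Ideal.Quotient.isDomain_iff_prime I).1 inferInstance
  have hdR := IsRegularLocalRing.spanFinrank_maximalIdeal (R := R)
  have hdQ := IsRegularLocalRing.spanFinrank_maximalIdeal (R := R ⧸ I)
  have hne : I ≠ ⊥ := by
    rintro rfl
    rw [ringKrullDim_eq_of_ringEquiv (RingEquiv.quotientBot R), ← hdR] at hd
    norm_cast at hd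
    omega
  obtain ⟨x, hxI, hx⟩ := hI.exists_mem_prime_of_ne_bot hne
  have hle : Ideal.span {x} ≤ I := (Ideal.span_singleton_le_iff_mem I).2 hxI
  have heq : I = Ideal.span {x} := by
    by_contra h
    obtain ⟨r, hr, hr'⟩ := SetLike.exists_of_lt (lt_of_le_of_ne hle (Ne.symm h))
    haveI : (Ideal.span {x}).IsPrime := (Ideal.span_singleton_prime hx.ne_zero).2 hx
    haveI : IsDomain (R ⧸ Ideal.span {x}) := Ideal.Quotient.isDomain _
    have h1 : ringKrullDim (R ⧸ I) + 1 ≤ ringKrullDim (R ⧸ Ideal.span {x}) :=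
      ringKrullDim_succ_le_of_surjective (Ideal.Quotient.factor hle) (Ideal.Quotient.factor_surjective hle)
        (r := Ideal.Quotient.mk _ r) (mem_nonZeroDivisors_of_ne_zero fun h0 => hr'
          (Ideal.Quotient.eq_zero_iff_mem.1 h0)) (Ideal.Quotient.eq_zero_iff_mem.2 hr)
    have h2 : ringKrullDim (R ⧸ Ideal.span {x}) + 1 ≤ ringKrullDim R :=
      ringKrullDim_succ_le_of_surjective (Ideal.Quotient.mk _) Ideal.Quotient.mk_surjective
        (r := x) (mem_nonZeroDivisors_of_ne_zero hx.ne_zero)
        (Ideal.Quotient.eq_zero_iff_mem.2 (Ideal.mem_span_singleton_self x))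
    have h3 : ringKrullDim (R ⧸ I) + 1 + 1 ≤ ringKrullDim R := (add_le_add h1 le_rfl).trans h2
    rw [hd, ← hdQ] at h3
    norm_cast at h3
    omega
  subst heq
  have hxm : x ∈ maximalIdeal R := le_maximalIdeal hI.ne_top (Ideal.mem_span_singleton_self x)
  refine ⟨x, rfl, hxm, fun hx2 => ?_⟩
  let f := Ideal.Quotient.mk (Ideal.span {x})
  have hf : Function.Surjective f := Ideal.Quotient.mk_surjective
  classical
  obtain ⟨s, hcard, hs⟩ := Submodule.FG.exists_span_set_encard_eq_spanFinrank
    (IsNoetherian.noetherian (maximalIdeal (R ⧸ Ideal.span {x})))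
  have hsfin : s.Finite := Set.finite_of_encard_eq_coe hcard
  let g : R ⧸ Ideal.span {x} → R := Function.surjInv hf
  have hJ : maximalIdeal R ≤ Ideal.span (g '' s) ⊔ maximalIdeal R • maximalIdeal R := by
    intro r hr
    have hr' : f r ∈ maximalIdeal (R ⧸ Ideal.span {x}) := by
      rw [← IsLocalRing.map_maximalIdeal_of_surjective f hf]; exact Ideal.mem_map_of_mem f hr
    have hfs : f '' (g '' s) = s := by
      rw [Set.image_image]
      simp only [g, Function.surjInv_eq hf, Set.image_id']
    rw [← hs] at hr'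
    have hm : f r ∈ (Ideal.span (g '' s)).map f := by rw [Ideal.map_span, hfs]; exact hr'
    obtain ⟨r', hr1, hr2⟩ := (Ideal.mem_map_iff_of_surjective f hf).1 hm
    obtain ⟨c, hc⟩ := Ideal.mem_span_singleton'.1 (Ideal.Quotient.eq.1 hr2.symm : r - r' ∈ Ideal.span {x})
    refine Submodule.mem_sup.2 ⟨r', hr1, c * x, ?_, by rw [hc]; ring⟩
    rw [Ideal.smul_eq_mul, ← pow_two]
    exact Ideal.mul_mem_left _ c hx2
  have hmle : maximalIdeal R ≤ Ideal.span (g '' s) :=
    Submodule.le_of_le_smul_of_le_jacobson_bot (IsNoetherian.noetherian _)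
      (IsLocalRing.maximalIdeal_le_jacobson _) hJ
  have hgm : g '' s ⊆ maximalIdeal R := by
    rintro _ ⟨q, hq, rfl⟩
    have : f (g q) ∈ maximalIdeal (R ⧸ Ideal.span {x}) := by
      rw [Function.surjInv_eq hf q, ← hs]; exact Submodule.subset_span hq
    exact (mem_maximalIdeal _).2 fun hu => (mem_maximalIdeal _).1 this (hu.map f)
  have heq : maximalIdeal R = Ideal.span (g '' s) := le_antisymm hmle (Ideal.span_le.2 hgm)
  have hle' : (maximalIdeal R).spanFinrank ≤ (maximalIdeal (R ⧸ Ideal.span {x})).spanFinrank := by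
    rw [heq]
    refine (Submodule.spanFinrank_span_le_ncard_of_finite (hsfin.image g)).trans ((Set.ncard_image_le hsfin).trans ?_)
    rw [Set.ncard_def, hcard, ENat.toNat_coe]
  rw [← hdR, ← hdQ] at hd
  norm_cast at hd
  omega

/-- Parameters stay parameters along unramified flat local maps. -/
theorem map_notMem_sq [IsLocalRing R] {S : Type u} [CommRing S] [IsLocalRing S] [Algebra R S]
    [IsLocalHom (algebraMap R S)] [Module.Flat R S]
    (hm : (maximalIdeal R).map (algebraMap R S) = maximalIdeal S) {x : R} (hx : x ∉ (maximalIdeal R) ^ 2) :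
    algebraMap R S x ∉ (maximalIdeal S) ^ 2 := by
  haveI : Module.FaithfullyFlat R S := Module.FaithfullyFlat.of_flat_of_isLocalHom
  intro h
  rw [← hm, ← Ideal.map_pow] at h
  exact hx ((Ideal.comap_map_eq_self_of_faithfullyFlat (B := S) _).le h)

/-- The germ of a parameter power decomposition. -/
theorem exists_unit_mul_pow [IsDomain R] [IsNoetherianRing R] {t : R} (ht : Prime t) {a b : R} {N : ℕ}
    (hab : a * b = t ^ N) : ∃ (m : ℕ) (c : R), a = c * t ^ m ∧ IsUnit c := by
  obtain ⟨m, k, u, v, -, hw, ha, -⟩ := mul_eq_mul_prime_pow ht (a := 1) (x := a) (y := b) (n := N) (by simpa using hab)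
  exact ⟨m, u, ha, IsUnit.of_mul_eq_one v hw.symm⟩

end PurMuLib
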