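import Groth.Agent.PurMuLib.Quot
import Groth.Agent.EtKummerLib.Basic
import Groth.Agent.EtShLib.FiniteExact

/-!
# Purity for `μ_n` along a regular divisor
-/

set_option autoImplicit false
set_option linter.unusedSectionVars false
set_option linter.style.haveILetI false
set_option backward.isDefEq.respectTransparency false
set_option backward.isDefEq.respectTransparency.types false
set_option synthInstance.maxHeartbeats 400000
set_option maxHeartbeats 2000000

universe u

open CategoryTheory CategoryTheory.Limits AlgebraicGeometry Opposite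
open Groth.Agent.EtShLib EtSliceLib

noncomputable section

namespace PurMuLib

/-- The integers. -/
abbrev Zc : AddCommGrpCat.{u + 1} := AddCommGrpCat.of (ULift.{u + 1} ℤ)

/-- Reduction modulo `n`. -/
def redHom (n : ℕ) : Zc.{u} ⟶ AddCommGrpCat.of (ULift.{u + 1} (ZMod n)) :=
  AddCommGrpCat.ofHom ((AddEquiv.ulift.symm.toAddMonoidHom).comp
    ((Int.castAddHom (ZMod n)).comp AddEquiv.ulift.toAddMonoidHom))

theorem redHom_apply (n : ℕ) (a : ULift.{u + 1} ℤ) : redHom n a = (⟨(a.down : ZMod n)⟩ : ULift.{u + 1} (ZMod n)) := rfl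

theorem nsmul_apply (n : ℕ) (a : ULift.{u + 1} ℤ) : (n • 𝟙 Zc.{u}) a = n • a := rfl

theorem comp_redHom (n : ℕ) : (n • 𝟙 Zc.{u}) ≫ redHom n = 0 := by
  ext a
  show (((n • a.down : ℤ)) : ZMod n) = 0
  rw [nsmul_eq_mul, Int.cast_mul, Int.cast_natCast, ZMod.natCast_self, zero_mul]

/-- `0 → ℤ → ℤ → ℤ/n → 0`. -/
abbrev zSeq (n : ℕ) : ShortComplex AddCommGrpCat.{u + 1} := ShortComplex.mk _ _ (comp_redHom n)

theorem zSeq_shortExact {n : ℕ} (hn : n ≠ 0) : (zSeq.{u} n).ShortExact where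
  exact := by
    rw [ShortComplex.ab_exact_iff]
    intro a ha
    have h : ((a.down : ℤ) : ZMod n) = 0 := congrArg ULift.down ha
    obtain ⟨b, hb⟩ := (ZMod.intCast_zmod_eq_zero_iff_dvd _ _).1 h
    exact ⟨⟨b⟩, ULift.ext _ _ (show n • b = a.down by rw [hb, nsmul_eq_mul])⟩
  mono_f := (AddCommGrpCat.mono_iff_injective _).2 fun a b h => ULift.ext _ _ <| by
    have h' : (n : ℤ) * a.down = (n : ℤ) * b.down := by
      simpa [nsmul_eq_mul] using congrArg ULift.down h
    exact mul_left_cancel₀ (Int.natCast_ne_zero.2 hn) h'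
  epi_g := (AddCommGrpCat.epi_iff_surjective _).2 fun a => by
    obtain ⟨b, hb⟩ := ZMod.intCast_surjective a.down
    exact ⟨⟨b⟩, ULift.ext _ _ hb⟩

theorem isZero_of_isEmpty {X : Scheme.{u}} [IsEmpty X] (F : EtCoh.Ab X) : IsZero F := by
  haveI : IsIso (0 : F ⟶ F) := isIso_of_stalks (A := AddCommGrpCat.{u + 1}) _ fun Ω _ _ ξ =>
    isEmptyElim (ξ.base default)
  rw [IsZero.iff_id_eq_zero]
  rw [← cancel_mono (0 : F ⟶ F), comp_zero, comp_zero]

variable {X D U : Scheme.{u}}

/-- Purity for `μ_n` along a regular divisor. -/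
theorem main [IsLocallyNoetherian X] (hXreg : ∀ x : X, IsRegularLocalRing (X.presheaf.stalk x))
    (n : ℕ) (hn : IsUnit (n : Γ(X, ⊤)))
    (i : D ⟶ X) [IsClosedImmersion i] (hDreg : ∀ y : D, IsRegularLocalRing (D.presheaf.stalk y))
    (hcodim : ∀ y : D, ringKrullDim (X.presheaf.stalk (i.base y)) = ringKrullDim (D.presheaf.stalk y) + 1)
    (j : U ⟶ X) [IsOpenImmersion j] (hU : Set.range j = (Set.range i)ᶜ) [EtCoh.BCCont j] [EtCoh.BCCont i] :
    IsZero ((EtDual.locCoh j 0).obj (EtCoh.mu X n)) ∧ IsZero ((EtDual.locCoh j 1).obj (EtCoh.mu X n)) ∧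
      Nonempty ((EtDual.locCoh j 2).obj (EtCoh.mu X n) ≅ (EtCoh.push i).obj (EtCoh.const D (ZMod n))) := by
  by_cases hX : IsEmpty X
  · exact ⟨isZero_of_isEmpty _, isZero_of_isEmpty _, ⟨(isZero_of_isEmpty _).iso (isZero_of_isEmpty _)⟩⟩
  obtain ⟨x₀⟩ := not_isEmpty_iff.1 hX
  have hn0 : n ≠ 0 := by
    rintro rfl
    have := hn.map (X.presheaf.germ ⊤ x₀ trivial).hom
    rw [Nat.cast_zero, map_zero] at this
    exact not_isUnit_zero this
  have hC : Cod1 j.opensRange := cod1_of_divisor hXreg i hDreg hcodim j.opensRange hU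
  haveI := EtLocCohLib.preservesFiniteLimits_secSupp j
  let F := EtDual.secSupp j
  haveI : Epi (EtCoh.powMap X n) := Groth.Agent.EtShLib.epi_powMap X n hn
  let S := EtKummerLib.kummer X n
  have hS : S.ShortExact :=
    { exact := ShortComplex.exact_of_f_is_kernel _ (kernelIsKernel (EtCoh.powMap X n))
      mono_f := inferInstanceAs (Mono (kernel.ι (EtCoh.powMap X n)))
      epi_g := ‹Epi (EtCoh.powMap X n)› }
  have hG0 : IsZero ((F.rightDerived 0).obj S.X₂) :=
    (isZero_secSupp_Gm j hC).of_iso (F.rightDerivedZeroIsoSelf.app _)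
  -- `H¹` of `G_m`
  let hQ : EtDual.unitApp j (EtCoh.Gm X) ≫ (EtCoh.push j).map ((restrTheta j).app (EtCoh.Gm X)) = ηu j :=
    ((EtCoh.pullPushAdj j).homEquiv_unit (f := (restrTheta j).app (EtCoh.Gm X))).symm.trans
      (Equiv.apply_symm_apply _ _)
  haveI : AlgebraicGeometry.Etale j := inferInstance
  haveI : IsIso ((restrTheta j).app (EtCoh.Gm X)) := NatIso.isIso_app_of_isIso (restrTheta j) (EtCoh.Gm X)
  let eT := asIso ((EtCoh.push j).map ((restrTheta j).app (EtCoh.Gm X)))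
  let e1 : cokernel (EtDual.unitApp j (EtCoh.Gm X)) ≅ Qt j :=
    cokernel.mapIso _ _ (Iso.refl _) eT (hQ.trans (Category.id_comp _).symm)
  obtain ⟨e2⟩ := EtLocCohLib.nonempty_cokernel_iso j (EtCoh.Gm X) (InjectiveResolution.of (EtCoh.Gm X))
  haveI : IsIso ((EtCoh.pullPushAdj i).unit.app (Qt j)) := unit_isIso_of_vanish i (Qt j) fun W hW =>
    subsingleton_Qt j (hW.trans hU.symm.subset)
  obtain ⟨e3⟩ := nonempty_iso_pull j i hC (fun x hx => by
    intro h; exact (hU.le h) hx)
  haveI : (EtCoh.push i).Additive := { }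
  haveI : (EtCoh.push i).PreservesHomology := preservesHomology_push_finite i
  haveI : PreservesFiniteColimits (EtCoh.push i) := Functor.preservesFiniteColimits_of_preservesHomology _
  haveI : PreservesFiniteLimits (EtCoh.push i) := Functor.preservesFiniteLimits_of_preservesHomology _
  let A := (EtCoh.push i).obj ((EtLocCohLib.cK D).obj Zc.{u})
  let e : (F.rightDerived 1).obj S.X₂ ≅ A :=
    e2.symm ≪≫ e1 ≪≫ asIso ((EtCoh.pullPushAdj i).unit.app (Qt j)) ≪≫ (EtCoh.push i).mapIso e3.symm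
  have hg : (F.rightDerived 1).map S.g = n • 𝟙 _ := by
    show (F.rightDerived 1).map (n • 𝟙 (EtCoh.Gm X)) = _
    rw [Functor.map_nsmul, CategoryTheory.Functor.map_id]
  have hcomm : (F.rightDerived 1).map S.g ≫ e.hom = e.hom ≫ (n • 𝟙 A) := by
    rw [hg, Preadditive.nsmul_comp, Preadditive.comp_nsmul, Category.comp_id, Category.id_comp]
  let T := ((zSeq.{u} n).map (EtLocCohLib.cK D)).map (EtCoh.push i)
  have hT : T.ShortExact := (EtLocCohLib.shortExact_cK (zSeq_shortExact hn0)).map_of_exact (EtCoh.push i)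
  have hTf : T.f = n • 𝟙 A := by
    show (EtCoh.push i).map ((EtLocCohLib.cK D).map (n • 𝟙 Zc.{u})) = _
    rw [Functor.map_nsmul, CategoryTheory.Functor.map_id, Functor.map_nsmul, CategoryTheory.Functor.map_id]
  haveI : Mono (n • 𝟙 A) := hTf ▸ hT.mono_f
  haveI hmono : Mono ((F.rightDerived 1).map S.g) := by
    have : Mono ((F.rightDerived 1).map S.g ≫ e.hom) := by rw [hcomm]; exact mono_comp _ _
    exact mono_of_mono _ e.hom
  have L := Groth.Agent.RDerLib.derivedLES F
  refine ⟨?_, ?_, ?_⟩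
  · haveI := Groth.Agent.RDerLib.mono_map_zero F hS
    exact IsZero.of_mono ((F.rightDerived 0).map S.f) hG0
  · have h1 : (F.rightDerived 1).map S.f = 0 := by
      rw [← cancel_mono ((F.rightDerived 1).map S.g), zero_comp, ← Functor.map_comp, S.zero, Functor.map_zero]
    exact (L.exact₁ S hS 0 1 rfl).isZero_X₂ (hG0.eq_of_src _ _) h1
  · have hep : Epi (L.δ S hS 1 2 rfl) :=
      (L.exact₁ S hS 1 2 rfl).epi_f ((isZero_locCoh_two_Gm j hC).eq_of_tgt _ _)
    let a : cokernel ((F.rightDerived 1).map S.g) ≅ (F.rightDerived 2).obj S.X₁ :=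
      haveI := hep
      (colimit.isColimit _).coconePointUniqueUpToIso (L.exact₃ S hS 1 2 rfl).gIsCokernel
    let b : cokernel ((F.rightDerived 1).map S.g) ≅ cokernel T.f :=
      cokernel.mapIso _ _ e e (by rw [hTf]; exact hcomm)
    let c : cokernel T.f ≅ T.X₃ :=
      haveI := hT.epi_g
      (colimit.isColimit _).coconePointUniqueUpToIso hT.exact.gIsCokernel
    exact ⟨a.symm ≪≫ b ≪≫ c⟩

end PurMuLib
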