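import Groth.Agent.PurMuLib.Alg
import Groth.Agent.FComplLib.Modules
import Groth.Agent.EtStalkLib.Basic
import Groth.Prelude.Def_EtBase

/-!
# Local equations of a regular divisor
-/

set_option autoImplicit false
set_option linter.style.haveILetI false
set_option backward.isDefEq.respectTransparency false
set_option backward.isDefEq.respectTransparency.types false
set_option maxHeartbeats 1000000

universe u

open CategoryTheory AlgebraicGeometry IsLocalRing

noncomputable section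

namespace PurMuLib

/-- `t` is an equation on `O` of the complement of `R`, a parameter at the points outside `R`. -/
def IsEqn {Y : Scheme.{u}} (R O : Y.Opens) (t : Γ(Y, O)) : Prop :=
  Y.basicOpen t = O ⊓ R ∧ ∀ (y : Y) (hy : y ∈ O), y ∉ R →
    Y.presheaf.germ O y hy t ∈ maximalIdeal (Y.presheaf.stalk y) ∧
      Y.presheaf.germ O y hy t ∉ maximalIdeal (Y.presheaf.stalk y) ^ 2

/-- The setting: a regular scheme and the complement of a regular divisor. -/
structure Cod1 {X : Scheme.{u}} (R : X.Opens) : Prop where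
  noeth : IsLocallyNoetherian X
  reg : ∀ x : X, IsRegularLocalRing (X.presheaf.stalk x)
  eqn : ∀ x : X, x ∉ R → ∃ (O : X.Opens) (t : Γ(X, O)), x ∈ O ∧ IsEqn R O t

theorem cod1_of_divisor {X D : Scheme.{u}} [IsLocallyNoetherian X]
    (hX : ∀ x : X, IsRegularLocalRing (X.presheaf.stalk x)) (i : D ⟶ X) [IsClosedImmersion i]
    (hD : ∀ y : D, IsRegularLocalRing (D.presheaf.stalk y))
    (hcodim : ∀ y : D, ringKrullDim (X.presheaf.stalk (i.base y)) = ringKrullDim (D.presheaf.stalk y) + 1)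
    (R : X.Opens) (hR : (R : Set X) = (Set.range i)ᶜ) : Cod1 R := by
  refine ⟨inferInstance, hX, fun x hx => ?_⟩
  have hmem : ∀ z : X, z ∉ R ↔ z ∈ Set.range i := fun z => by
    change z ∉ (R : Set X) ↔ _
    rw [hR]; exact not_not
  obtain ⟨d, rfl⟩ := (hmem x).1 hx
  obtain ⟨V₀, hV₀, hdV, -⟩ := exists_isAffineOpen_mem_and_subset (x := i d) (U := (⊤ : X.Opens)) trivial
  let V : X.affineOpens := ⟨V₀, hV₀⟩
  haveI : IsNoetherianRing Γ(X, V.1) := IsLocallyNoetherian.component_noetherian V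
  let I := i.ker.ideal V
  obtain ⟨gs, hgs⟩ := (IsNoetherian.noetherian I : I.FG)
  -- the kernel at a point of the divisor
  have hker : ∀ (e : D) (he : i e ∈ V.1), ∃ π : X.presheaf.stalk (i e),
      I.map (X.presheaf.germ V.1 (i e) he).hom = Ideal.span {π} ∧ π ∈ maximalIdeal _ ∧ π ∉ maximalIdeal _ ^ 2 := by
    intro e he
    haveI := hX (i e)
    haveI := hD e
    let q := RingHom.quotientKerEquivOfSurjective (f := (i.stalkMap e).hom) (i.stalkMap_surjective e)
    haveI : IsRegularLocalRing (X.presheaf.stalk (i e) ⧸ RingHom.ker (i.stalkMap e).hom) :=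
      IsRegularLocalRing.of_ringEquiv q.symm
    have := exists_param (RingHom.ker (i.stalkMap e).hom)
      (by rw [ringKrullDim_eq_of_ringEquiv q]; exact hcodim e)
    rwa [FComplLib.ker_stalkMap i e V he] at this
  obtain ⟨π, hπ, -, -⟩ := hker d hdV
  -- a generator inside the ideal
  letI := X.presheaf.algebra_section_stalk (⟨i d, hdV⟩ : V.1)
  haveI : IsLocalization.AtPrime (X.presheaf.stalk (i d)) (hV₀.primeIdealOf ⟨i d, hdV⟩).asIdeal :=
    hV₀.isLocalization_stalk ⟨i d, hdV⟩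
  let P := (hV₀.primeIdealOf ⟨i d, hdV⟩).asIdeal
  have hπI : π ∈ I.map (algebraMap Γ(X, V.1) (X.presheaf.stalk (i d))) := by
    show π ∈ I.map (X.presheaf.germ V.1 (i d) hdV).hom
    rw [hπ]; exact Ideal.mem_span_singleton_self π
  obtain ⟨⟨⟨a, ha⟩, s⟩, hs⟩ := (IsLocalization.mem_map_algebraMap_iff P.primeCompl _).1 hπI
  have hga : I.map (algebraMap Γ(X, V.1) (X.presheaf.stalk (i d))) =
      Ideal.span {algebraMap Γ(X, V.1) (X.presheaf.stalk (i d)) a} := by
    refine le_antisymm ?_ ((Ideal.span_singleton_le_iff_mem _).2 (Ideal.mem_map_of_mem _ ha))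
    show I.map (X.presheaf.germ V.1 (i d) hdV).hom ≤ _
    rw [hπ, Ideal.span_singleton_le_iff_mem, Ideal.mem_span_singleton, ← hs]
    exact ⟨↑(IsLocalization.map_units (X.presheaf.stalk (i d)) s).unit⁻¹, by
      rw [mul_assoc, IsUnit.mul_val_inv, mul_one]⟩
  -- one denominator for all generators
  have hden : ∀ g ∈ gs, ∃ f : Γ(X, V.1), f ∉ P ∧ f * g ∈ Ideal.span {a} := by
    intro g hg
    have hgI : g ∈ I := hgs ▸ Submodule.subset_span hg
    have : algebraMap Γ(X, V.1) (X.presheaf.stalk (i d)) g ∈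
        (Ideal.span {a}).map (algebraMap Γ(X, V.1) (X.presheaf.stalk (i d))) := by
      rw [Ideal.map_span, Set.image_singleton, ← hga]; exact Ideal.mem_map_of_mem _ hgI
    obtain ⟨f, hf, hfg⟩ := (IsLocalization.algebraMap_mem_map_algebraMap_iff P.primeCompl (X.presheaf.stalk (i d))
      _ g).1 this
    exact ⟨f, hf, hfg⟩
  classical
  choose! ff hff hffg using hden
  let f := ∏ g ∈ gs, ff g
  have hfP : f ∉ P := fun h => by
    haveI : P.IsPrime := (hV₀.primeIdealOf ⟨i d, hdV⟩).2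
    obtain ⟨g, hg, hgP⟩ := Ideal.IsPrime.prod_mem_iff.1 h
    exact hff g hg hgP
  have hfI : ∀ g ∈ I, f * g ∈ Ideal.span {a} := by
    intro g hg
    rw [← hgs] at hg
    induction hg using Submodule.span_induction with
    | mem g hg =>
      show (∏ g ∈ gs, ff g) * g ∈ _
      rw [← Finset.mul_prod_erase gs ff hg, mul_right_comm]
      exact Ideal.mul_mem_right _ _ (hffg g hg)
    | zero => simp
    | add x y _ _ hx hy => rw [mul_add]; exact add_mem hx hy
    | smul r x _ hx => rw [smul_eq_mul, mul_left_comm]; exact Ideal.mul_mem_left _ r hx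
  let O : X.Opens := X.basicOpen f
  have hO : O ≤ V.1 := X.basicOpen_le f
  -- at points of `O`
  have hgerm : ∀ (z : X) (hz : z ∈ O), I.map (X.presheaf.germ V.1 z (hO hz)).hom =
      Ideal.span {X.presheaf.germ V.1 z (hO hz) a} := by
    intro z hz
    refine le_antisymm (Ideal.map_le_iff_le_comap.2 fun g hg => ?_)
      ((Ideal.span_singleton_le_iff_mem _).2 (Ideal.mem_map_of_mem _ ha))
    obtain ⟨c, hc⟩ := Ideal.mem_span_singleton'.1 (hfI g hg)
    have hu : IsUnit (X.presheaf.germ V.1 z (hO hz) f) := (X.mem_basicOpen f z (hO hz)).1 hz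
    rw [Ideal.mem_comap]
    rw [← Ideal.unit_mul_mem_iff_mem _ hu]
    show (X.presheaf.germ V.1 z (hO hz)).hom f * _ ∈ _
    rw [← map_mul, ← hc, map_mul]
    exact Ideal.mul_mem_left _ _ (Ideal.mem_span_singleton_self _)
  have hsupp : ∀ (z : X) (hz : z ∈ V.1), z ∈ R ↔ I.map (X.presheaf.germ V.1 z hz).hom = ⊤ := by
    intro z hz
    have h1 : z ∈ X.zeroLocus (U := V.1) (I : Set Γ(X, V.1)) ↔ z ∈ Set.range i := by
      have h2 := congrArg (fun S : Set X => z ∈ S) (i.ker.coe_support_inter V)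
      simp only [Set.mem_inter_iff, SetLike.mem_coe, eq_iff_iff] at h2
      have h3 : z ∈ i.ker.support ↔ z ∈ Set.range i := by
        change z ∈ (i.ker.support : Set X) ↔ _
        rw [Scheme.Hom.support_ker]
        show z ∈ closure (Set.range i) ↔ _
        rw [i.isClosedEmbedding.isClosed_range.closure_eq]
      constructor
      · exact fun h => h3.1 ((h2.2 ⟨h, hz⟩).1)
      · exact fun h => (h2.1 ⟨h3.2 h, hz⟩).1
    rw [← not_iff_not, hmem, ← h1]
    constructor
    · intro h htop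
      have hle : I.map (X.presheaf.germ V.1 z hz).hom ≤ maximalIdeal _ := Ideal.map_le_iff_le_comap.2
        fun g hg => (mem_maximalIdeal _).2 fun hu => (X.mem_zeroLocus_iff _ _).1 h g hg
          ((X.mem_basicOpen g z hz).2 hu)
      exact (maximalIdeal.isMaximal _).ne_top (top_le_iff.1 (htop ▸ hle))
    · intro h
      refine (X.mem_zeroLocus_iff _ _).2 fun g hg hgz => h ?_
      exact Ideal.eq_top_of_isUnit_mem _ (Ideal.mem_map_of_mem _ hg) ((X.mem_basicOpen g z hz).1 hgz)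
  refine ⟨O, X.presheaf.map (homOfLE hO).op a, ?_, ?_, fun y hy hyR => ?_⟩
  · rw [X.mem_basicOpen f (i d) hdV]
    exact IsLocalization.map_units (X.presheaf.stalk (i d)) (⟨f, hfP⟩ : P.primeCompl)
  · refine TopologicalSpace.Opens.ext (Set.ext fun z => ?_)
    constructor
    · intro hz
      have hzO : z ∈ O := X.basicOpen_le _ hz
      refine ⟨hzO, (hsupp z (hO hzO)).2 (Ideal.eq_top_of_isUnit_mem _ (Ideal.mem_map_of_mem _ ha) ?_)⟩
      have := (X.mem_basicOpen _ z hzO).1 hz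
      rwa [X.presheaf.germ_res_apply] at this
    · rintro ⟨hzO, hzR⟩
      refine (X.mem_basicOpen _ z hzO).2 ?_
      have := (hsupp z (hO hzO)).1 hzR
      rw [hgerm z hzO, Ideal.span_singleton_eq_top] at this
      rwa [X.presheaf.germ_res_apply]
  · obtain ⟨e, rfl⟩ := (hmem y).1 hyR
    obtain ⟨π', hπ', hm, hm2⟩ := hker e (hO hy)
    haveI := hX (i e)
    haveI := CommAlgDim.isDomain_of_isRegularLocalRing (X.presheaf.stalk (i e))
    rw [hgerm (i e) hy, Ideal.span_singleton_eq_span_singleton] at hπ'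
    obtain ⟨v, hv⟩ := hπ'.symm
    rw [X.presheaf.germ_res_apply, ← hv]
    refine ⟨Ideal.mul_mem_right _ _ hm, fun h => hm2 ?_⟩
    exact (Ideal.mul_unit_mem_iff_mem _ v.isUnit).1 h

variable {X : Scheme.{u}} {R : X.Opens}

theorem Cod1.regular_etale (h : Cod1 R) {Y : Scheme.{u}} (f : Y ⟶ X) [AlgebraicGeometry.Etale f] (y : Y) :
    IsRegularLocalRing (Y.presheaf.stalk y) :=
  haveI := h.noeth
  (EtStalkLib.isRegularLocalRing_iff f y).2 (h.reg (f y))

theorem IsEqn.pull {R : X.Opens} {O : X.Opens} {t : Γ(X, O)} (h : IsEqn R O t) {Y : Scheme.{u}} (f : Y ⟶ X)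
    [AlgebraicGeometry.Etale f] : IsEqn (f ⁻¹ᵁ R) (f ⁻¹ᵁ O) (f.app O t) := by
  refine ⟨?_, fun z hz hzR => ?_⟩
  · rw [← Scheme.preimage_basicOpen, h.1]
    rfl
  · obtain ⟨hm, hm2⟩ := h.2 (f z) hz hzR
    obtain ⟨h1, h2, h3, -⟩ := EtStalkLib.stalk_props f z
    letI := (f.stalkMap z).hom.toAlgebra
    rw [← Scheme.Hom.germ_stalkMap_apply f O z hz t]
    exact ⟨h3 ▸ Ideal.mem_map_of_mem _ hm, map_notMem_sq h3 hm2⟩

theorem IsEqn.prime {Y : Scheme.{u}} {R O : Y.Opens} {t : Γ(Y, O)} (h : IsEqn R O t) {y : Y}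
    [IsRegularLocalRing (Y.presheaf.stalk y)] (hy : y ∈ O) (hyR : y ∉ R) : Prime (Y.presheaf.germ O y hy t) :=
  prime_of_notMem_sq (h.2 y hy hyR).1 (h.2 y hy hyR).2

theorem IsEqn.ne_zero {Y : Scheme.{u}} {R O : Y.Opens} {t : Γ(Y, O)} (h : IsEqn R O t) {y : Y} (hy : y ∈ O)
    (hyR : y ∉ R) : Y.presheaf.germ O y hy t ≠ 0 := fun h0 => (h.2 y hy hyR).2 (by rw [h0]; exact zero_mem _)

theorem Cod1.eqn_etale (h : Cod1 R) {Y : Scheme.{u}} (f : Y ⟶ X) [AlgebraicGeometry.Etale f] (y : Y)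
    (hy : y ∉ f ⁻¹ᵁ R) : ∃ (O : Y.Opens) (t : Γ(Y, O)), y ∈ O ∧ IsEqn (f ⁻¹ᵁ R) O t := by
  obtain ⟨O, t, hxO, ht⟩ := h.eqn (f y) hy
  exact ⟨f ⁻¹ᵁ O, f.app O t, hxO, ht.pull f⟩

/-- Germs of sections restrict injectively to the complement of the divisor. -/
theorem IsEqn.germ_eq_zero {Y : Scheme.{u}} {R O : Y.Opens} {t : Γ(Y, O)} (h : IsEqn R O t) {y : Y} (hy : y ∈ O)
    (hyR : y ∉ R) [IsDomain (Y.presheaf.stalk y)] {V : Y.Opens} (hyV : y ∈ V) (s : Γ(Y, V))
    (hs : Y.presheaf.map (homOfLE (inf_le_left : V ⊓ R ≤ V)).op s = 0) : Y.presheaf.germ V y hyV s = 0 := by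
  obtain ⟨U, hU, hyU, hUle⟩ := exists_isAffineOpen_mem_and_subset (x := y) (U := O ⊓ V) ⟨hy, hyV⟩
  let s' := Y.presheaf.map (homOfLE (hUle.trans inf_le_right)).op s
  let t' := Y.presheaf.map (homOfLE (hUle.trans inf_le_left)).op t
  have h0 : Y.presheaf.map (homOfLE (Y.basicOpen_le t')).op s' = 0 := by
    have hle : Y.basicOpen t' ≤ V ⊓ R := by
      rw [Scheme.basicOpen_res, h.1]
      exact fun z hz => ⟨(hUle hz.1).2, hz.2.2⟩
    have := congrArg (Y.presheaf.map (homOfLE hle).op) hs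
    rw [map_zero, ← CommRingCat.comp_apply, ← Functor.map_comp] at this
    rw [← CommRingCat.comp_apply, ← Functor.map_comp]
    exact this
  haveI := hU.isLocalization_basicOpen t'
  obtain ⟨⟨_, N, rfl⟩, hN⟩ := (IsLocalization.map_eq_zero_iff (Submonoid.powers t') _ s').1 h0
  have hN' := congrArg (Y.presheaf.germ U y hyU) hN
  rw [map_mul, map_pow, map_zero] at hN'
  have e1 : Y.presheaf.germ U y hyU t' = Y.presheaf.germ O y hy t := TopCat.Presheaf.germ_res_apply _ _ _ _ _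
  have e2 : Y.presheaf.germ U y hyU s' = Y.presheaf.germ V y hyV s := TopCat.Presheaf.germ_res_apply _ _ _ _ _
  rw [e1, e2] at hN'
  exact (mul_eq_zero.1 hN').resolve_left (pow_ne_zero _ (h.ne_zero hy hyR))

end PurMuLib
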