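import Groth.Agent.H90Lib.Twist
import Groth.Agent.UFDExtLib.Densify

/-!
# Modules from cocycles on a cover of a dense open
-/

set_option autoImplicit false
universe u

open CategoryTheory CategoryTheory.Limits AlgebraicGeometry TopologicalSpace Opposite
open AmpleLib (res GenOn)
open DiscExtLib (triv cut cut_le cut_le_left cut_mono le_cut fn pi_sections)
open NormDescLib (tuples tc rY rY_rY rY_mul tc_res tc_smul tc_sub tc_zero exists_tuple tuple_ext)
open H90Lib (twist)

noncomputable section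

namespace PurMuLib

variable {Y : Scheme.{u}} {ι : Type u} {V : ι → Y.Opens} {C : ∀ i j : ι, Γ(Y, V i ⊓ V j)}

theorem cut_inf (i : ι) {R W : Y.Opens} (hR : V i ≤ R) : cut (V i) W ≤ cut (V i) (W ⊓ R) := fun z hz => by
  refine le_cut _ _ ⟨⟨cut_le _ _ hz, hR (cut_le_left _ _ hz)⟩, cut_le_left _ _ hz⟩

/-- A module with frames whose transition functions are the cocycle, determined on the open. -/
theorem exists_twist_setting {R : Y.Opens} (hdense : Dense (R : Set Y)) (hle : ∀ i, V i ≤ R)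
    (hcov : ∀ y ∈ R, ∃ i, y ∈ V i) (hone : ∀ i, C i i = 1)
    (hcoc : ∀ i j k, rY (inf_le_left : (V i ⊓ V j) ⊓ V k ≤ V i ⊓ V j) (C i j) *
        rY (inf_le_inf_right (V k) inf_le_right : (V i ⊓ V j) ⊓ V k ≤ V j ⊓ V k) (C j k) =
      rY (inf_le_inf_right (V k) inf_le_left : (V i ⊓ V j) ⊓ V k ≤ V i ⊓ V k) (C i k)) :
    ∃ (M : Y.Modules) (e : ∀ i, Γ(M, V i)), UFDExtLib.Setting M R ∧ (∀ i, GenOn M (e i)) ∧
      ∀ i j, res M (inf_le_left : V i ⊓ V j ≤ V i) (e i) = C i j • res M (inf_le_right : V i ⊓ V j ≤ V j) (e j) := by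
  let S := twist V C
  choose t ht using fun i => exists_tuple V (W := V i) fun j =>
    rY (le_inf (cut_le (V j) (V i)) (cut_le_left (V j) (V i))) (C i j)
  have hmem : ∀ i, S.mem (V i) (t i) := fun i j k => by
    have := congrArg (rY (le_inf (le_inf (inf_le_left.trans (cut_le (V j) (V i)))
      (inf_le_left.trans (cut_le_left (V j) (V i)))) (inf_le_right.trans (cut_le_left (V k) (V i))) :
      cut (V j) (V i) ⊓ cut (V k) (V i) ≤ (V i ⊓ V j) ⊓ V k)) (hcoc i j k)
    rw [rY_mul, rY_rY, rY_rY, rY_rY] at this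
    rw [ht i j, ht i k, rY_rY, rY_rY]
    exact this.symm
  let τ : ∀ i, Γ(S.toModules, V i) := fun i => S.lift (t i) (hmem i)
  have hτ : ∀ i (W : Y.Opens) (hW : W ≤ V i) j, tc V j (S.ι.app W (res S.toModules hW (τ i))) =
      rY (le_inf ((cut_le (V j) W).trans hW) (cut_le_left (V j) W)) (C i j) := fun i W hW j => by
    rw [show S.ι.app W (res S.toModules hW (τ i)) = res (tuples V) hW (t i) from
      QCohLib.app_map S.ι (homOfLE hW) (τ i), tc_res, ht i j, rY_rY]
  have hsm : ∀ i (W : Y.Opens) (hW : W ≤ V i) (r : Γ(Y, W)) j,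
      tc V j (S.ι.app W (r • res S.toModules hW (τ i))) =
        rY (cut_le (V j) W) r * rY (le_inf ((cut_le (V j) W).trans hW) (cut_le_left (V j) W)) (C i j) :=
    fun i W hW r j => by rw [QCohLib.app_smul, tc_smul, hτ]
  have hkey : ∀ i (W : Y.Opens), W ≤ V i → ∀ a : Γ(tuples V, W), S.mem W a → tc V i a = 0 → a = 0 :=
    fun i W hW a ha h0 => tuple_ext V fun j => by
      rw [tc_zero]
      have h1 := ha i j
      rw [h0] at h1
      have hle : cut (V j) W ≤ cut (V i) W ⊓ cut (V j) W :=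
        le_inf ((le_inf (cut_le _ _) ((cut_le _ _).trans hW)).trans (le_cut (V i) W)) le_rfl
      have h2 := congrArg (rY hle) h1
      rw [rY_mul, rY_rY, rY_rY, rY_rY, show rY (hle.trans inf_le_left) (0 : Γ(Y, cut (V i) W)) = 0 from map_zero _,
        zero_mul] at h2
      exact (AmpleLib.res_refl (Coh.structureModule Y) (tc V j a)).symm.trans h2
  have hgen : ∀ i, GenOn S.toModules (τ i) := by
    intro i W hW
    have hle : W ≤ cut (V i) W := (le_inf le_rfl hW).trans (le_cut (V i) W)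
    have hre : ∀ r : Γ(Y, W), rY hle (rY (cut_le (V i) W) r) = r := fun r =>
      (rY_rY _ _ r).trans (AmpleLib.res_refl (Coh.structureModule Y) r)
    have hi : ∀ r : Γ(Y, W), tc V i (S.ι.app W (r • res S.toModules hW (τ i))) = rY (cut_le (V i) W) r :=
      fun r => by
        rw [hsm, hone, show rY (le_inf ((cut_le (V i) W).trans hW) (cut_le_left (V i) W))
          (1 : Γ(Y, V i ⊓ V i)) = 1 from map_one _, mul_one]
    refine ⟨fun r r' e => ?_, fun s => ?_⟩
    · have := congrArg (fun z => rY hle (tc V i (S.ι.app W z))) e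
      simpa only [hi, hre] using this
    · refine ⟨rY hle (tc V i (S.ι.app W s)), S.ι_app_injective W (sub_eq_zero.mp ?_).symm⟩
      refine hkey i W hW _ ((S.sub W).sub_mem (S.ι_app_mem s) (S.ι_app_mem _)) ?_
      rw [tc_sub, hi, sub_eq_zero, rY_rY]
      exact (AmpleLib.res_refl (Coh.structureModule Y) _).symm
  refine ⟨S.toModules, τ, ⟨hdense, fun y hy => ?_, fun W => ⟨fun a b e => ?_, fun c => ?_⟩⟩, hgen, fun i j => ?_⟩
  · obtain ⟨i, hi⟩ := hcov y hy
    exact ⟨V i, hi, hle i, τ i, hgen i⟩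
  · refine S.ι_app_injective W (tuple_ext V fun k => ?_)
    have h1 := congrArg (fun z => rY (cut_inf k (hle k) : cut (V k) W ≤ cut (V k) (W ⊓ R))
      (tc V k (S.ι.app (W ⊓ R) z))) e
    simp only [show ∀ z : Γ(S.toModules, W), S.ι.app (W ⊓ R) (res S.toModules inf_le_left z) =
      res (tuples V) inf_le_left (S.ι.app W z) from fun z => QCohLib.app_map S.ι (homOfLE inf_le_left) z,
      tc_res, rY_rY] at h1
    exact ((AmpleLib.res_refl (Coh.structureModule Y) _).symm.trans h1).trans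
      (AmpleLib.res_refl (Coh.structureModule Y) _)
  · obtain ⟨a, ha⟩ := exists_tuple V (W := W) fun k =>
      rY (cut_inf k (hle k) : cut (V k) W ≤ cut (V k) (W ⊓ R)) (tc V k (S.ι.app (W ⊓ R) c))
    have hc : res (tuples V) (inf_le_left : W ⊓ R ≤ W) a = S.ι.app (W ⊓ R) c := tuple_ext V fun k => by
      rw [tc_res, ha, rY_rY]
      exact AmpleLib.res_refl (Coh.structureModule Y) _
    have hm : S.mem W a := fun i k => by
      have h1 := congrArg (rY (inf_le_inf (cut_inf i (hle i)) (cut_inf k (hle k)) :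
        cut (V i) W ⊓ cut (V k) W ≤ cut (V i) (W ⊓ R) ⊓ cut (V k) (W ⊓ R))) (S.ι_app_mem c i k)
      rw [rY_mul, rY_rY, rY_rY, rY_rY] at h1
      rw [ha, ha, rY_rY, rY_rY]
      exact h1
    exact ⟨S.lift a hm, S.ι_app_injective _ ((QCohLib.app_map S.ι (homOfLE inf_le_left) _).trans hc)⟩
  refine S.ι_app_injective _ (tuple_ext V fun k => ?_)
  rw [hτ, hsm]
  have := congrArg (rY (le_inf (cut_le (V k) (V i ⊓ V j)) (cut_le_left (V k) (V i ⊓ V j)))) (hcoc i j k)
  rw [rY_mul, rY_rY, rY_rY, rY_rY] at this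
  exact this.symm

end PurMuLib
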