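import Groth.Agent.PurMuLib.Sect
import Groth.Agent.PurMuLib.Twist
import Groth.Agent.H90Lib.Local

/-!
# Sections of a quotient of an injective sheaf by `G_m` extend across the divisor
-/

set_option autoImplicit false
set_option linter.unusedSectionVars false
set_option linter.style.haveILetI false
set_option backward.isDefEq.respectTransparency false
set_option backward.isDefEq.respectTransparency.types false
set_option synthInstance.maxHeartbeats 400000
set_option maxHeartbeats 2000000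

universe u

open CategoryTheory CategoryTheory.Limits AlgebraicGeometry Opposite
open Groth.Agent.EtShLib EtSliceLib MuConstLib H90Lib
open AmpleLib (res GenOn)
open NormDescLib (rY rY_rY rY_mul)

noncomputable section

namespace PurMuLib

variable {X U : Scheme.{u}} (j : U ⟶ X) [IsOpenImmersion j]

theorem surjective_map_mono (I : EtCoh.Ab X) [Injective I] {A B : X.Etale} (f : A ⟶ B) [Mono f.left] :
    Function.Surjective (I.obj.map f.op) := fun s => by
  haveI : Mono (freeMap f) := mono_freeMap f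
  refine ⟨(Injective.factorThru (desc A s) (freeMap f)).hom.app _ (gen B), ?_⟩
  rw [← freeMap_app, Injective.comp_factorThru, desc_gen]

theorem dense_oR {R : X.Opens} (h : Cod1 R) {Y : Scheme.{u}} (f : Y ⟶ X) [AlgebraicGeometry.Etale f] :
    Dense ((f ⁻¹ᵁ R : Y.Opens) : Set Y) := by
  refine dense_iff_inter_open.2 fun O hO ⟨y, hy⟩ => ?_
  by_contra hne
  have hyR : y ∉ f ⁻¹ᵁ R := fun h' => hne ⟨y, hy, h'⟩
  obtain ⟨O', t, hyO', ht⟩ := h.eqn_etale f y hyR
  haveI := h.regular_etale f y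
  haveI := CommAlgDim.isDomain_of_isRegularLocalRing (Y.presheaf.stalk y)
  let V : Y.Opens := ⟨O, hO⟩
  have hV : V ⊓ f ⁻¹ᵁ R = ⊥ := TopologicalSpace.Opens.ext (Set.eq_empty_iff_forall_notMem.2 fun z hz => hne ⟨z, hz.1, hz.2⟩)
  have hsub : ∀ W : Y.Opens, W = ⊥ → Subsingleton Γ(Y, W) := by rintro W rfl; infer_instance
  haveI := hsub _ hV
  have := ht.germ_eq_zero hyO' hyR (V := V) hy 1 (Subsingleton.elim _ _)
  rw [map_one] at this
  exact one_ne_zero this

/-- Sections of `I / G_m` over the part over `U` extend. -/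
theorem exists_ext (h : Cod1 j.opensRange) {I C : EtCoh.Ab X} [Injective I] (ι : EtCoh.Gm X ⟶ I) (g : I ⟶ C)
    (w : ι ≫ g = 0) (hS : (ShortComplex.mk ι g w).ShortExact) (W : X.Etale)
    (c : ToType ((rs W C).obj.obj (op (ov (oR j W))))) (y₀ : W.left) :
    ∃ O : W.left.Opens, y₀ ∈ O ∧ ∃ d : ToType ((rs W C).obj.obj (op (ov O))),
      rsv (rs W C) (inf_le_left : O ⊓ oR j W ≤ O) d = rsv (rs W C) (inf_le_right : O ⊓ oR j W ≤ oR j W) c := by
  haveI := hS.mono_f
  haveI : Mono ι := hS.mono_f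
  let R := oR j W
  let ι' : rs W (EtCoh.Gm X) ⟶ rs W I := (EtShriek.restrAlong W.hom).map ι
  let g' : rs W I ⟶ rs W C := (EtShriek.restrAlong W.hom).map g
  have hι : ∀ O : W.left.Opens, Function.Injective (ι'.hom.app (op (ov O))) := fun O => injective_app ι (oo W O)
  have hex : ∀ (O : W.left.Opens) (s : ToType ((rs W I).obj.obj (op (ov O)))), g'.hom.app (op (ov O)) s = 0 →
      ∃ a, ι'.hom.app (op (ov O)) a = s := fun O s hs => exists_preimage_app hS (oo W O) s hs
  have hgι : ∀ (O : W.left.Opens) (a : ToType ((rs W (EtCoh.Gm X)).obj.obj (op (ov O)))),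
      g'.hom.app (op (ov O)) (ι'.hom.app (op (ov O)) a) = 0 :=
    fun O a => congrArg (fun t : EtCoh.Gm X ⟶ C => t.hom.app (op (oo W O)) a) w
  -- local lifts on `R`
  have hlift : ∀ y : R, ∃ (O : W.left.Opens) (hO : O ≤ R), y.1 ∈ O ∧
      ∃ b : ToType ((rs W I).obj.obj (op (ov O))), g'.hom.app (op (ov O)) b = rsv (rs W C) hO c := by
    intro y
    obtain ⟨V', φ, hφ, ⟨v, hv⟩, d, hd⟩ := exists_lift_open ι g w hS (oo W R) c y
    let q : V'.left ⟶ W.left := φ.left ≫ R.ι
    haveI : IsOpenImmersion q := inferInstanceAs (IsOpenImmersion (φ.left ≫ R.ι))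
    have hqR : q.opensRange ≤ R := by
      rintro _ ⟨z, rfl⟩
      exact (φ.left z).2
    refine ⟨q.opensRange, hqR, ⟨v, ?_⟩, ?_⟩
    · show R.ι.base (φ.left.base v) = y.1
      rw [hv]; rfl
    have hr : IsOpenImmersion.lift q q.opensRange.ι (Scheme.Opens.range_ι _).subset ≫ q = q.opensRange.ι :=
      IsOpenImmersion.lift_fac _ _ _
    let r : oo W q.opensRange ⟶ V' := MorphismProperty.Over.homMk
      (IsOpenImmersion.lift q q.opensRange.ι (Scheme.Opens.range_ι _).subset) (by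
        rw [← MorphismProperty.Over.w φ]
        show IsOpenImmersion.lift q q.opensRange.ι _ ≫ φ.left ≫ R.ι ≫ W.hom = q.opensRange.ι ≫ W.hom
        conv_rhs => rw [← hr]
        simp only [q, Category.assoc])
    refine ⟨I.obj.map r.op d, ?_⟩
    refine (NatTrans.naturality_apply g.hom r.op d).trans ?_
    rw [hd]
    show C.obj.map r.op (C.obj.map φ.op c) = C.obj.map ((EtShriek.compEtale W.hom).map (ovHom hqR)).op c
    rw [map_map]
    refine congrArg (fun f => C.obj.map f.op c) (MorphismProperty.Over.Hom.ext ((cancel_mono R.ι).1 ?_))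
    show (_ ≫ φ.left) ≫ R.ι = W.left.homOfLE hqR ≫ R.ι
    rw [Scheme.homOfLE_ι, Category.assoc]
    exact hr
  choose V hV hyV b hb using hlift
  -- the cocycle
  have hdiff : ∀ k l : R, ∃ a : ToType ((rs W (EtCoh.Gm X)).obj.obj (op (ov (V k ⊓ V l)))),
      ι'.hom.app _ a = rsv (rs W I) inf_le_left (b k) - rsv (rs W I) inf_le_right (b l) := fun k l => by
    refine hex _ _ ?_
    rw [map_sub, rsv_app g', rsv_app g', hb, hb, rsv_rsv, rsv_rsv, sub_self]
  choose a ha using hdiff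
  let Cc : ∀ k l : R, Γ(W.left, V k ⊓ V l) := fun k l => val' (V k ⊓ V l) (a k l)
  have hone : ∀ k, Cc k k = 1 := fun k => by
    have : a k k = 0 := hι _ (by rw [ha, sub_self, map_zero])
    show uVal (X := W.left) _ (a k k) = 1
    rw [this]
    exact uVal_zero (X := W.left) _
  have hcoc : ∀ k l m : R, rY (inf_le_left : (V k ⊓ V l) ⊓ V m ≤ V k ⊓ V l) (Cc k l) *
        rY (inf_le_inf_right (V m) inf_le_right : (V k ⊓ V l) ⊓ V m ≤ V l ⊓ V m) (Cc l m) =
      rY (inf_le_inf_right (V m) inf_le_left : (V k ⊓ V l) ⊓ V m ≤ V k ⊓ V m) (Cc k m) := fun k l m => by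
    have e : rsv (rs W (EtCoh.Gm X)) (inf_le_left : (V k ⊓ V l) ⊓ V m ≤ V k ⊓ V l) (a k l) +
        rsv (rs W (EtCoh.Gm X)) (inf_le_inf_right (V m) inf_le_right : (V k ⊓ V l) ⊓ V m ≤ V l ⊓ V m) (a l m) =
        rsv (rs W (EtCoh.Gm X)) (inf_le_inf_right (V m) inf_le_left : (V k ⊓ V l) ⊓ V m ≤ V k ⊓ V m) (a k m) := by
      refine hι _ ?_
      simp only [map_add, rsv_app ι', ha, map_sub, rsv_rsv]
      abel
    show W.left.presheaf.map _ (uVal (X := W.left) _ (a k l)) * W.left.presheaf.map _ (uVal (X := W.left) _ (a l m)) =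
      W.left.presheaf.map _ (uVal (X := W.left) _ (a k m))
    rw [← uVal_rsv (X := W.left), ← uVal_rsv (X := W.left), ← uVal_rsv (X := W.left), ← uVal_add (X := W.left)]
    exact congrArg (uVal (X := W.left) _) e
  -- the invertible module
  obtain ⟨G, e, hset, he, htr⟩ := exists_twist_setting (dense_oR h W.hom) hV
    (fun y hy => ⟨⟨y, hy⟩, hyV ⟨y, hy⟩⟩) hone hcoc
  haveI : IsLocallyNoetherian ((𝟭 Scheme.{u}).obj W.left) :=
    haveI := h.noeth
    LocallyOfFiniteType.isLocallyNoetherian (X := W.left) (Y := X) W.hom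
  obtain ⟨L, lam, hL, hbij⟩ := UFDExtLib.exists_invertible_sub hset fun y _ => by
    haveI : IsRegularLocalRing (((𝟭 Scheme.{u}).obj W.left).presheaf.stalk y) := h.regular_etale (Y := W.left) W.hom y
    exact ⟨CommAlgDim.isDomain_of_isRegularLocalRing _, RegUFDLib.uniqueFactorizationMonoid _⟩
  obtain ⟨O, f, hyO, hf⟩ := TwistLib.exists_genOn hL y₀
  refine ⟨O, hyO, ?_⟩
  let P : R → W.left.Opens := fun k => O ⊓ V k
  let σ : ∀ k, Γ(G, P k) := fun k => lam.app (P k) (res L inf_le_left f)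
  have hσ : ∀ k (Z : W.left.Opens) (hZ : Z ≤ P k), res G hZ (σ k) = lam.app Z (res L (hZ.trans inf_le_left) f) :=
    fun k Z hZ => (QCohLib.app_map lam (homOfLE hZ) (res L inf_le_left f)).symm.trans
      (congrArg (lam.app Z) (AmpleLib.res_res L inf_le_left hZ f))
  have hσgen : ∀ k, GenOn G (σ k) := fun k Z hZ => by
    have e1 : (fun r : Γ(W.left, Z) => r • res G hZ (σ k)) =
        (lam.app Z) ∘ (fun r : Γ(W.left, Z) => r • res L (hZ.trans inf_le_left) f) := by
      funext r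
      rw [hσ, Function.comp_apply]
      exact (QCohLib.app_smul lam Z r _).symm
    refine (congrArg Function.Bijective e1).mpr ?_
    exact (hbij Z ((hZ.trans inf_le_right).trans (hV k))).comp (hf Z _)
  have hu : ∀ k, ∃ r : Γ(W.left, P k), IsUnit r ∧ σ k = r • res G (inf_le_right : P k ≤ V k) (e k) := fun k => by
    obtain ⟨r, hr⟩ := (he k (P k) inf_le_right).2 (σ k)
    obtain ⟨r', hr'⟩ := (hσgen k (P k) le_rfl).2 (res G inf_le_right (e k))
    dsimp only at hr hr'
    rw [AmpleLib.res_refl] at hr'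
    refine ⟨r, IsUnit.of_mul_eq_one r' ((he k (P k) inf_le_right).1 ?_), hr.symm⟩
    show (r * r') • res G inf_le_right (e k) = (1 : Γ(W.left, P k)) • res G inf_le_right (e k)
    rw [one_smul, mul_comm, mul_smul, hr, hr']
  choose r hr hre using hu
  let u : ∀ k, ToType ((rs W (EtCoh.Gm X)).obj.obj (op (ov (P k)))) := fun k => uMk (X := W.left) (P k) (hr k)
  let s : ∀ k, ToType ((rs W I).obj.obj (op (ov (P k)))) := fun k =>
    rsv (rs W I) inf_le_right (b k) + ι'.hom.app _ (u k)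
  have hcomp : ∀ k l, rsv (rs W I) (inf_le_left : P k ⊓ P l ≤ P k) (s k) =
      rsv (rs W I) (inf_le_right : P k ⊓ P l ≤ P l) (s l) := fun k l => by
    have h1 : P k ⊓ P l ≤ V k ⊓ V l := inf_le_inf inf_le_right inf_le_right
    have e1 : rsv (rs W (EtCoh.Gm X)) (inf_le_left : P k ⊓ P l ≤ P k) (u k) + rsv (rs W (EtCoh.Gm X)) h1 (a k l) =
        rsv (rs W (EtCoh.Gm X)) (inf_le_right : P k ⊓ P l ≤ P l) (u l) := by
      refine uVal_injective (X := W.left) _ ?_
      refine (uVal_add (X := W.left) _ _ _).trans ?_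
      refine (congrArg₂ (· * ·) ((uVal_rsv (X := W.left) (inf_le_left : P k ⊓ P l ≤ P k) (u k)).trans
        (congrArg _ (uVal_uMk (X := W.left) (P k) (hr k)))) (uVal_rsv (X := W.left) h1 (a k l))).trans ?_
      refine Eq.trans ?_ ((uVal_rsv (X := W.left) (inf_le_right : P k ⊓ P l ≤ P l) (u l)).trans
        (congrArg _ (uVal_uMk (X := W.left) (P l) (hr l)))).symm
      refine (he l _ (h1.trans inf_le_right)).1 ?_
      show (rY _ (r k) * rY h1 (Cc k l)) • _ = rY _ (r l) • _
      have t1 := congrArg (res G h1) (htr k l)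
      have t2 := congrArg (res G (inf_le_left : P k ⊓ P l ≤ P k)) (hre k)
      have t3 := congrArg (res G (inf_le_right : P k ⊓ P l ≤ P l)) (hre l)
      simp only [AmpleLib.res_smul, AmpleLib.res_res, hσ] at t1 t2 t3
      exact (mul_smul _ _ _).trans ((congrArg (rY (inf_le_left : P k ⊓ P l ≤ P k) (r k) • ·) t1.symm).trans (t2.symm.trans t3))
    show rsv (rs W I) _ (rsv (rs W I) _ (b k) + _) = rsv (rs W I) _ (rsv (rs W I) _ (b l) + _)
    rw [map_add, map_add, rsv_rsv, rsv_rsv, ← rsv_app ι', ← rsv_app ι', ← e1, map_add, rsv_app ι' h1, ha, map_sub,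
      rsv_rsv, rsv_rsv]
    abel
  have hcov : ∀ y ∈ O ⊓ R, ∃ k, y ∈ P k := fun y hy => ⟨⟨y, hy.2⟩, hy.1, hyV ⟨y, hy.2⟩⟩
  obtain ⟨t, ht, -⟩ := exists_glue (rs W I) P (O ⊓ R) (fun k => inf_le_inf le_rfl (hV k)) hcov s hcomp
  haveI : Mono ((EtShriek.compEtale W.hom).map (ovHom (inf_le_left : O ⊓ R ≤ O))).left :=
    inferInstanceAs (Mono (W.left.homOfLE (inf_le_left : O ⊓ R ≤ O)))
  obtain ⟨t', ht'⟩ := surjective_map_mono I
    ((EtShriek.compEtale W.hom).map (ovHom (inf_le_left : O ⊓ R ≤ O))) t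
  refine ⟨g'.hom.app _ t', ?_⟩
  rw [← rsv_app g']
  refine ext_cover (rs W C) P (O ⊓ R) (fun k => inf_le_inf le_rfl (hV k)) hcov fun k => ?_
  rw [← rsv_app g']
  have ht'' : rsv (rs W I) (inf_le_left : O ⊓ R ≤ O) t' = t := ht'
  rw [ht'', ht k, map_add, hgι, add_zero, rsv_app g', hb, rsv_rsv, rsv_rsv]

end PurMuLib
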