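import Groth.Agent.PurMuLib.Vanish
import Groth.Agent.EtShLib.PushStalk
import Groth.Agent.EtLocCohLib.ConstDev
import Groth.Agent.EtAcycLib.Local

/-!
# Units on the complement of a regular divisor modulo units
-/

set_option autoImplicit false
set_option linter.unusedSectionVars false
set_option linter.style.haveILetI false
set_option backward.isDefEq.respectTransparency false
set_option backward.isDefEq.respectTransparency.types false
set_option synthInstance.maxHeartbeats 400000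
set_option maxHeartbeats 2000000

universe u

open CategoryTheory CategoryTheory.Limits AlgebraicGeometry Opposite
open Groth.Agent.EtShLib EtSliceLib MuConstLib H90Lib

noncomputable section

namespace PurMuLib

variable {X U : Scheme.{u}} (j : U ⟶ X) [IsOpenImmersion j]

instance jCont_open : EtShriek.JCont j :=
  haveI : AlgebraicGeometry.Etale j := inferInstance
  jCont j

/-- Units on the part over `U`. -/
abbrev Tp : EtCoh.Ab X := ((EtCoh.bc j).sheafPushforwardContinuous AddCommGrpCat.{u + 1} X.smallEtaleTopology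
  U.smallEtaleTopology).obj ((EtShriek.restrAlong j).obj (EtCoh.Gm X))

/-- Restriction of units. -/
abbrev ηu : EtCoh.Gm X ⟶ Tp j := (restrEta j).app (EtCoh.Gm X)

/-- The quotient sheaf. -/
abbrev Qt : EtCoh.Ab X := cokernel (ηu j)

/-- The projection. -/
abbrev πq : Tp j ⟶ Qt j := cokernel.π (ηu j)

/-- The part over `U` as an étale object. -/
abbrev Pb (W : X.Etale) : X.Etale := (EtShriek.compEtale j).obj ((EtCoh.bc j).obj W)

/-- The function of a section of `Tp`. -/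
abbrev fv {W : X.Etale} (f : ToType ((Tp j).obj.obj (op W))) : Γ((Pb j W).left, ⊤) :=
  gmVal X (W := Pb j W) f

instance isOpenImmersion_compBc (W : X.Etale) : IsOpenImmersion (compBc j W).left :=
  inferInstanceAs (IsOpenImmersion (pullback.fst W.hom j))

theorem range_compBc (W : X.Etale) : Set.range (compBc j W).left.base = (oR j W : Set W.left) :=
  Scheme.Pullback.range_fst W.hom j

theorem preimage_oR {W' W : X.Etale} (g : W' ⟶ W) : g.left ⁻¹ᵁ oR j W = oR j W' := by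
  refine TopologicalSpace.Opens.ext ?_
  show g.left.base ⁻¹' (W.hom.base ⁻¹' (j.opensRange : Set X)) = W'.hom.base ⁻¹' (j.opensRange : Set X)
  rw [← MorphismProperty.Over.w g]
  rfl

/-- Pulled back functions. -/
abbrev pg {W' W : X.Etale} (g : W' ⟶ W) (a : Γ(W.left, ⊤)) : Γ(W'.left, ⊤) := g.left.appTop a

theorem pg_pg {W'' W' W : X.Etale} (h : W'' ⟶ W') (g : W' ⟶ W) (a : Γ(W.left, ⊤)) :
    pg h (pg g a) = pg (h ≫ g) a := rfl

/-- Functions on the part over `U`. -/
theorem exists_bij (W : X.Etale) : ∃ e : Γ(W.left, oR j W) →+* Γ((Pb j W).left, ⊤), Function.Bijective e ∧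
    ∀ a : Γ(W.left, ⊤), e (W.left.presheaf.map (homOfLE (le_top : oR j W ≤ ⊤)).op a) = pg (compBc j W) a := by
  let p := (compBc j W).left
  have hle : oR j W ≤ p.opensRange := fun z hz => by
    show z ∈ Set.range p.base
    rw [range_compBc]; exact hz
  have he : (⊤ : (Pb j W).left.Opens) = p ⁻¹ᵁ oR j W := (top_le_iff.1 fun z _ => by
    show p.base z ∈ (oR j W : Set W.left)
    rw [← range_compBc]; exact ⟨z, rfl⟩).symm
  haveI := p.isIso_app (oR j W) hle
  let E := p.app (oR j W) ≫ (Pb j W).left.presheaf.map (eqToHom he).op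
  haveI : IsIso E := inferInstance
  refine ⟨E.hom, ConcreteCategory.bijective_of_isIso E, fun a => ?_⟩
  show (W.left.presheaf.map _ ≫ p.app (oR j W) ≫ _) a = p.appTop a
  rw [← Category.assoc, p.naturality, Category.assoc, ← Functor.map_comp]
  exact congrArg (fun f => (p.appTop ≫ f) a) ((Pb j W).left.presheaf.map_id _)

theorem res_oR_eq_zero {W : X.Etale} {a : Γ(W.left, ⊤)} (ha : pg (compBc j W) a = 0) :
    W.left.presheaf.map (homOfLE (inf_le_left : (⊤ : W.left.Opens) ⊓ oR j W ≤ ⊤)).op a = 0 := by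
  obtain ⟨e, he, hea⟩ := exists_bij j W
  have h0 : W.left.presheaf.map (homOfLE (le_top : oR j W ≤ ⊤)).op a = 0 := he.1 (by rw [hea, ha, map_zero])
  have e2 : W.left.presheaf.map (homOfLE (inf_le_left : (⊤ : W.left.Opens) ⊓ oR j W ≤ ⊤)).op =
      W.left.presheaf.map (homOfLE (le_top : oR j W ≤ ⊤)).op ≫
        W.left.presheaf.map (homOfLE (inf_le_right : (⊤ : W.left.Opens) ⊓ oR j W ≤ oR j W)).op := by
    rw [← Functor.map_comp]; rfl
  rw [e2, CommRingCat.comp_apply, h0, map_zero]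

theorem fv_add {W : X.Etale} (f f' : ToType ((Tp j).obj.obj (op W))) : fv j (f + f') = fv j f * fv j f' := rfl

theorem fv_nsmul {W : X.Etale} (n : ℕ) (f : ToType ((Tp j).obj.obj (op W))) : fv j (n • f) = fv j f ^ n := by
  induction n with
  | zero => rw [zero_smul, pow_zero]; rfl
  | succ n ih => rw [succ_nsmul, fv_add, ih, pow_succ]

theorem fv_res {W' W : X.Etale} (g : W' ⟶ W) (f : ToType ((Tp j).obj.obj (op W))) :
    fv j ((Tp j).obj.map g.op f) = pg ((EtShriek.compEtale j).map ((EtCoh.bc j).map g)) (fv j f) := rfl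

theorem pg_compBc {W' W : X.Etale} (g : W' ⟶ W) (a : Γ(W.left, ⊤)) :
    pg ((EtShriek.compEtale j).map ((EtCoh.bc j).map g)) (pg (compBc j W) a) = pg (compBc j W') (pg g a) := by
  rw [pg_pg, pg_pg, compBc_natural]

theorem fv_ηu {W : X.Etale} (s : ToType ((EtCoh.Gm X).obj.obj (op W))) :
    fv j ((ηu j).hom.app (op W) s) = pg (compBc j W) (gmVal X s) := rfl

/-- An equation of the divisor on `W`. -/
def IsEq (W : X.Etale) (t : Γ(W.left, ⊤)) : Prop := IsEqn (oR j W) ⊤ t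

theorem IsEq.isUnit {W : X.Etale} {t : Γ(W.left, ⊤)} (h : IsEq j W t) : IsUnit (pg (compBc j W) t) := by
  obtain ⟨e, -, hea⟩ := exists_bij j W
  let p := (compBc j W).left
  have h1 : p ⁻¹ᵁ W.left.basicOpen t = (Pb j W).left.basicOpen (pg (compBc j W) t) :=
    Scheme.preimage_basicOpen p t
  refine RingedSpace.isUnit_of_isUnit_germ (Pb j W).left.toRingedSpace ⊤ _ fun z _ => ?_
  refine ((Pb j W).left.mem_basicOpen (U := ⊤) _ z trivial).1 (h1 ▸ ?_)
  show p.base z ∈ W.left.basicOpen t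
  rw [h.1]
  exact ⟨trivial, show p.base z ∈ (oR j W : Set W.left) by rw [← range_compBc]; exact ⟨z, rfl⟩⟩

/-- The section of an equation. -/
def τ {W : X.Etale} {t : Γ(W.left, ⊤)} (h : IsEq j W t) : ToType ((Tp j).obj.obj (op W)) :=
  gmMk (W := Pb j W) (h.isUnit j).unit

theorem fv_τ {W : X.Etale} {t : Γ(W.left, ⊤)} (h : IsEq j W t) : fv j (τ j h) = pg (compBc j W) t := rfl

theorem fv_injective {W : X.Etale} : Function.Injective (fv j (W := W)) := gmVal_injective X

theorem IsEq.pull {W' W : X.Etale} {t : Γ(W.left, ⊤)} (h : IsEq j W t) (g : W' ⟶ W) : IsEq j W' (pg g t) := by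
  haveI := etale_left g
  have := IsEqn.pull h g.left
  rwa [preimage_oR] at this

theorem map_τ {W' W : X.Etale} {t : Γ(W.left, ⊤)} (h : IsEq j W t) (g : W' ⟶ W) :
    (Tp j).obj.map g.op (τ j h) = τ j (h.pull j g) :=
  fv_injective j ((fv_res j g _).trans (pg_compBc j g t))

theorem exists_eq (h : Cod1 j.opensRange) (W : X.Etale) (w : W.left) :
    ∃ (W' : X.Etale) (g : W' ⟶ W) (_ : IsOpenImmersion g.left) (t : Γ(W'.left, ⊤)),
      IsEq j W' t ∧ w ∈ Set.range g.left.base := by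
  by_cases hw : w ∈ oR j W
  · refine ⟨oo W (oR j W), ooTo W (oR j W), inferInstance, 1, ⟨?_, fun z _ hz => ?_⟩, ⟨⟨w, hw⟩, rfl⟩⟩
    · rw [Scheme.basicOpen_of_isUnit _ isUnit_one]
      exact le_antisymm (fun z _ => ⟨trivial, z.2⟩) inf_le_left
    · exact (hz z.2).elim
  · obtain ⟨O, t, hwO, ht⟩ := h.eqn_etale (Y := W.left) W.hom w hw
    have h1 := IsEqn.pull ht O.ι
    have cast : ∀ (O' : (O : Scheme.{u}).Opens), O' = O.ι ⁻¹ᵁ O → ∀ a : Γ((O : Scheme.{u}), O.ι ⁻¹ᵁ O),
        IsEqn (O.ι ⁻¹ᵁ oR j W) (O.ι ⁻¹ᵁ O) a → ∃ b, IsEqn (O.ι ⁻¹ᵁ oR j W) O' b := by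
      rintro O' rfl a ha; exact ⟨a, ha⟩
    obtain ⟨t', ht'⟩ := cast ⊤ O.ι_preimage_self.symm _ h1
    refine ⟨oo W O, ooTo W O, inferInstance, t', ?_, ⟨⟨w, hwO⟩, rfl⟩⟩
    unfold IsEq
    rw [← preimage_oR j (ooTo W O)]
    exact ht'

theorem mono_ηu (h : Cod1 j.opensRange) [EtCoh.BCCont j] : Mono (ηu j) := by
  haveI : AlgebraicGeometry.Etale j := inferInstance
  let θ : (EtCoh.pull j).obj (EtCoh.Gm X) ⟶ (EtShriek.restrAlong j).obj (EtCoh.Gm X) := (restrTheta j).app (EtCoh.Gm X)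
  haveI : IsIso θ := NatIso.isIso_app_of_isIso (restrTheta j) (EtCoh.Gm X)
  have hu : EtDual.unitApp j (EtCoh.Gm X) ≫ (EtCoh.push j).map θ = ηu j :=
    ((EtCoh.pullPushAdj j).homEquiv_unit (f := θ)).symm.trans (Equiv.apply_symm_apply _ _)
  haveI : Mono (EtDual.unitApp j (EtCoh.Gm X)) := Preadditive.mono_of_kernel_zero
    ((isZero_secSupp_Gm j h).eq_of_src _ _)
  rw [← hu]
  exact mono_comp _ _

section Germs

variable {Ω : Type u} [Field Ω] [IsSepClosed Ω] {ξ : Spec (CommRingCat.of Ω) ⟶ X}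

theorem germ_πq_of_mem {W : X.Etale} (v : Fib ξ W) (hv : v.pt ∈ oR j W) (f : ToType ((Tp j).obj.obj (op W))) :
    germ ξ (Qt j) W v ((πq j).hom.app (op W) f) = 0 := by
  obtain ⟨l, hl, -⟩ := Scheme.exists_fac_of_etale_of_isSepClosed (oR j W).ι v.hom ⟨v.pt, hv⟩ rfl
  let v' : Fib ξ (oo W (oR j W)) := Fib.mk l (by
    show l ≫ (oR j W).ι ≫ W.hom = ξ
    rw [← Category.assoc, hl, Fib.w])
  have hv' : v'.map (ooTo W (oR j W)) = v := Fib.ext ((Fib.map_hom (ooTo W (oR j W)) v').trans hl)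
  let W' := oo W (oR j W)
  let f' := (Tp j).obj.map (ooTo W (oR j W)).op f
  haveI : IsIso (compBc j W').left := by
    refine (isIso_iff_isOpenImmersion_and_epi_base (compBc j W').left).2 ⟨inferInstance, ?_⟩
    refine (TopCat.epi_iff_surjective _).2 fun z => ?_
    have : z ∈ Set.range (compBc j W').left.base := by
      rw [range_compBc]; exact z.2
    exact this
  obtain ⟨a, ha⟩ := (ConcreteCategory.bijective_of_isIso (compBc j W').left.appTop).2 (fv j f')
  have hua : IsUnit a := (isUnit_map_iff (compBc j W').left.appTop.hom a).1 (ha ▸ Units.isUnit _)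
  have hs : f' = (ηu j).hom.app (op W') (gmMk (W := W') hua.unit) :=
    fv_injective j (ha.symm)
  rw [← hv', ← germ_res_apply, ← NatTrans.naturality_apply (πq j).hom (ooTo W (oR j W)).op]
  show germ ξ (Qt j) W' v' ((πq j).hom.app (op W') f') = 0
  rw [hs, ← ConcreteCategory.comp_apply ((ηu j).hom.app (op W')),
    show (ηu j).hom.app (op W') ≫ (πq j).hom.app (op W') = 0 from
      congrArg (fun t : EtCoh.Gm X ⟶ Qt j => t.hom.app (op W')) (cokernel.condition (ηu j))]
  exact map_zero (germ ξ (Qt j) W' v').hom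

theorem germ_πq_ηu {W : X.Etale} (v : Fib ξ W) (s : ToType ((EtCoh.Gm X).obj.obj (op W))) :
    germ ξ (Qt j) W v ((πq j).hom.app (op W) ((ηu j).hom.app (op W) s)) = 0 := by
  rw [← ConcreteCategory.comp_apply ((ηu j).hom.app (op W)),
    show (ηu j).hom.app (op W) ≫ (πq j).hom.app (op W) = 0 from
      congrArg (fun t : EtCoh.Gm X ⟶ Qt j => t.hom.app (op W)) (cokernel.condition (ηu j))]
  exact map_zero (germ ξ (Qt j) W v).hom

/-- Near the divisor every unit on the complement is a unit times a power of the equation. -/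
theorem exists_order (h : Cod1 j.opensRange) {W : X.Etale} {t : Γ(W.left, ⊤)} (ht : IsEq j W t) (v : Fib ξ W)
    (hv : v.pt ∉ oR j W) (f : ToType ((Tp j).obj.obj (op W))) :
    ∃ m : ℤ, germ ξ (Qt j) W v ((πq j).hom.app (op W) f) = m • germ ξ (Qt j) W v ((πq j).hom.app (op W) (τ j ht)) := by
  obtain ⟨U₀, hU₀, hwU, -⟩ := exists_isAffineOpen_mem_and_subset (x := v.pt) (U := (⊤ : W.left.Opens)) trivial
  obtain ⟨l, hl, -⟩ := Scheme.exists_fac_of_etale_of_isSepClosed U₀.ι v.hom ⟨v.pt, hwU⟩ rfl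
  let v₁ : Fib ξ (oo W U₀) := Fib.mk l (by
    show l ≫ U₀.ι ≫ W.hom = ξ
    rw [← Category.assoc, hl, Fib.w])
  have hv₁ : v₁.map (ooTo W U₀) = v := Fib.ext ((Fib.map_hom (ooTo W U₀) v₁).trans hl)
  let V := oo W U₀
  let T := pg (ooTo W U₀) t
  have hT : IsEq j V T := ht.pull j (ooTo W U₀)
  let F := (Tp j).obj.map (ooTo W U₀).op f
  let y := v₁.pt
  have hy : y ∉ oR j V := fun hh => hv (by
    rw [← preimage_oR j (ooTo W U₀)] at hh
    rw [← hv₁]; exact hh)
  haveI : IsAffine V.left := hU₀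
  have hV : IsAffineOpen (⊤ : V.left.Opens) := isAffineOpen_top V.left
  haveI hreg : IsRegularLocalRing (V.left.presheaf.stalk y) := h.regular_etale (Y := V.left) V.hom y
  haveI := CommAlgDim.isDomain_of_isRegularLocalRing (V.left.presheaf.stalk y)
  -- functions on the part over `U`
  have hbo : oR j V = V.left.basicOpen T := by rw [hT.1]; exact (top_inf_eq _).symm
  have hfr : ∀ a : Γ((Pb j V).left, ⊤), ∃ (x : Γ(V.left, ⊤)) (k : ℕ),
      a * pg (compBc j V) T ^ k = pg (compBc j V) x := fun a => by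
    obtain ⟨e, he, hea⟩ := exists_bij j V
    obtain ⟨b, rfl⟩ := he.2 a
    letI : Algebra Γ(V.left, ⊤) Γ(V.left, oR j V) :=
      (V.left.presheaf.map (homOfLE (le_top : oR j V ≤ ⊤)).op).hom.toAlgebra
    haveI : IsLocalization.Away T Γ(V.left, oR j V) :=
      hV.isLocalization_of_eq_basicOpen T (homOfLE (le_top : oR j V ≤ ⊤)) hbo
    obtain ⟨⟨x, ⟨_, k, rfl⟩⟩, hk⟩ := IsLocalization.surj (Submonoid.powers T) b
    refine ⟨x, k, ?_⟩
    rw [← hea x, ← hea T, ← map_pow, ← map_mul]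
    refine congrArg e (Eq.trans ?_ hk)
    rw [map_pow]
    rfl
  obtain ⟨x, k, hx⟩ := hfr (fv j F)
  obtain ⟨x', k', hx'⟩ := hfr (fv j (-F))
  have hprod : fv j F * fv j (-F) = 1 := by rw [← fv_add, add_neg_cancel]; rfl
  have hgz : V.left.presheaf.germ ⊤ y trivial (x * x' - T ^ (k + k')) = 0 := by
    refine IsEqn.germ_eq_zero hT (y := y) trivial hy (V := ⊤) trivial _ (res_oR_eq_zero j ?_)
    show (compBc j V).left.appTop (x * x' - T ^ (k + k')) = 0
    rw [map_sub, map_mul, map_pow]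
    show pg (compBc j V) x * pg (compBc j V) x' - pg (compBc j V) T ^ (k + k') = 0
    rw [← hx, ← hx', sub_eq_zero, mul_mul_mul_comm, hprod, one_mul, pow_add]
  let tg := V.left.presheaf.germ ⊤ y trivial T
  rw [map_sub, map_mul, map_pow, sub_eq_zero] at hgz
  obtain ⟨m, c, hc, hcu⟩ := exists_unit_mul_pow (t := tg) (IsEqn.prime hT (y := y) trivial hy) hgz
  -- spread the unit
  obtain ⟨N₀, hyN₀, c₀, rfl⟩ := V.left.presheaf.exists_germ_eq (x := y) c
  obtain ⟨N₁, hyN₁, i₁, i₂, heq⟩ := V.left.presheaf.germ_eq (U := (⊤ : V.left.Opens)) (V := N₀) y trivial hyN₀ x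
    (c₀ * V.left.presheaf.map (homOfLE (le_top : N₀ ≤ ⊤)).op T ^ m) (by
      rw [hc, map_mul, map_pow, TopCat.Presheaf.germ_res_apply])
  let N : V.left.Opens := N₁ ⊓ V.left.basicOpen c₀
  have hyN : y ∈ N := ⟨hyN₁, (V.left.mem_basicOpen c₀ y hyN₀).2 hcu⟩
  let g : oo V N ⟶ V := ooTo V N
  let κ : ∀ {O : V.left.Opens} (hO : N ≤ O), Γ(V.left, O) →+* Γ((oo V N).left, ⊤) := fun {O} hO =>
    (V.left.presheaf.map (homOfLE hO).op ≫ N.topIso.inv).hom
  have hκ : ∀ a : Γ(V.left, ⊤), pg g a = κ le_top a := fun a => by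
    have e : N.ι.appTop ≫ N.topIso.hom = V.left.presheaf.map (homOfLE (le_top : N ≤ ⊤)).op := by
      rw [Scheme.Opens.ι_appTop]
      show V.left.presheaf.map _ ≫ V.left.presheaf.map _ = _
      rw [← Functor.map_comp]
      rfl
    show N.ι.appTop a = (V.left.presheaf.map (homOfLE (le_top : N ≤ ⊤)).op ≫ N.topIso.inv) a
    rw [← e, Category.assoc, Iso.hom_inv_id, Category.comp_id]
  have hN₀ : N ≤ N₀ := inf_le_right.trans (V.left.basicOpen_le c₀)
  have hcN : IsUnit (κ hN₀ c₀) := by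
    have e : (V.left.presheaf.map (homOfLE hN₀).op) c₀ = V.left.presheaf.map (homOfLE (inf_le_right : N ≤ _)).op
        (V.left.presheaf.map (homOfLE (V.left.basicOpen_le c₀)).op c₀) := by
      rw [← CommRingCat.comp_apply, ← Functor.map_comp]; rfl
    show IsUnit (N.topIso.inv ((V.left.presheaf.map (homOfLE hN₀).op) c₀))
    rw [e]
    exact ((V.left.toLocallyRingedSpace.toRingedSpace.isUnit_res_basicOpen c₀).map _).map _
  have hxN : pg g x = κ hN₀ c₀ * pg g T ^ m := by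
    have e := congrArg (κ (O := N₁) inf_le_left) heq
    rw [hκ, hκ]
    have r1 : κ (O := N₁) inf_le_left (V.left.presheaf.map i₁.op x) = κ le_top x := by
      show (V.left.presheaf.map i₁.op ≫ V.left.presheaf.map _ ≫ N.topIso.inv) x = _
      rw [← Category.assoc, ← Functor.map_comp]; rfl
    have r2 : ∀ a : Γ(V.left, N₀), κ (O := N₁) inf_le_left (V.left.presheaf.map i₂.op a) = κ hN₀ a := fun a => by
      show (V.left.presheaf.map i₂.op ≫ V.left.presheaf.map _ ≫ N.topIso.inv) a = _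
      rw [← Category.assoc, ← Functor.map_comp]; rfl
    have r3 : κ hN₀ (V.left.presheaf.map (homOfLE (le_top : N₀ ≤ ⊤)).op T) = κ le_top T := by
      show (V.left.presheaf.map _ ≫ V.left.presheaf.map _ ≫ N.topIso.inv) T = _
      rw [← Category.assoc, ← Functor.map_comp]; rfl
    rw [r1, r2, map_mul, map_pow, r3] at e
    exact e
  obtain ⟨l₂, hl₂, -⟩ := Scheme.exists_fac_of_etale_of_isSepClosed N.ι v₁.hom ⟨y, hyN⟩ rfl
  let v₂ : Fib ξ (oo V N) := Fib.mk l₂ (by
    show l₂ ≫ N.ι ≫ V.hom = ξ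
    rw [← Category.assoc, hl₂, Fib.w])
  have hv₂ : v₂.map g = v₁ := Fib.ext ((Fib.map_hom g v₂).trans hl₂)
  have key : (Tp j).obj.map g.op F + k • τ j (hT.pull j g) =
      (ηu j).hom.app (op (oo V N)) (gmMk (W := oo V N) hcN.unit) + m • τ j (hT.pull j g) := by
    refine fv_injective j ?_
    rw [fv_add, fv_add, fv_nsmul, fv_nsmul, fv_res, fv_ηu, fv_τ]
    let M := ((EtShriek.compEtale j).map ((EtCoh.bc j).map g)).left.appTop.hom
    let Pn := (compBc j (oo V N)).left.appTop.hom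
    have hM : ∀ a : Γ(V.left, ⊤), M (pg (compBc j V) a) = Pn (pg g a) := pg_compBc j g
    show M (fv j F) * Pn (pg g T) ^ k = Pn (κ hN₀ c₀) * Pn (pg g T) ^ m
    conv_lhs => rw [← hM T, ← map_pow, ← map_mul, hx, hM x, hxN, map_mul, map_pow]
  refine ⟨(m : ℤ) - (k : ℤ), ?_⟩
  rw [← hv₁, ← germ_res_apply, ← germ_res_apply, ← NatTrans.naturality_apply (πq j).hom (ooTo W U₀).op,
    ← NatTrans.naturality_apply (πq j).hom (ooTo W U₀).op, map_τ, ← hv₂, ← germ_res_apply, ← germ_res_apply,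
    ← NatTrans.naturality_apply (πq j).hom g.op, ← NatTrans.naturality_apply (πq j).hom g.op, map_τ]
  have key' := congrArg (fun z => germ ξ (Qt j) (oo V N) v₂ ((πq j).hom.app (op (oo V N)) z)) key
  simp only [map_add, map_nsmul, germ_πq_ηu, zero_add] at key'
  rw [sub_zsmul, natCast_zsmul, natCast_zsmul, ← key', add_neg_cancel_right]

theorem eq_zero_of_combination (h : Cod1 j.opensRange) [EtCoh.BCCont j] {W : X.Etale} {t t' : Γ(W.left, ⊤)}
    (ht : IsEq j W t) (ht' : IsEq j W t') (v : Fib ξ W) (hv : v.pt ∉ oR j W) {k l : ℕ}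
    (he : k • germ ξ (Qt j) W v ((πq j).hom.app (op W) (τ j ht)) +
      l • germ ξ (Qt j) W v ((πq j).hom.app (op W) (τ j ht')) = 0) : k = 0 ∧ l = 0 := by
  haveI := mono_ηu j h
  have hS : (ShortComplex.mk (ηu j) (πq j) (cokernel.condition (ηu j))).ShortExact :=
    { exact := ShortComplex.exact_of_g_is_cokernel _ (cokernelIsCokernel (ηu j)) }
  simp only [← map_nsmul, ← map_add] at he
  rw [← map_zero (germ ξ (Qt j) W v).hom] at he
  obtain ⟨W', g, z, hz, he'⟩ := (germ_eq_iff (F := Qt j) ξ W v _ _).1 he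
  rw [map_zero, ← NatTrans.naturality_apply (πq j).hom g.op] at he'
  obtain ⟨s, hs⟩ := exists_preimage_app hS W' _ he'
  have hzy : z.pt ∉ oR j W' := fun hh => hv (by
    rw [← preimage_oR j g] at hh
    rw [← hz]; exact hh)
  haveI : IsRegularLocalRing (W'.left.presheaf.stalk z.pt) := h.regular_etale (Y := W'.left) W'.hom z.pt
  haveI := CommAlgDim.isDomain_of_isRegularLocalRing (W'.left.presheaf.stalk z.pt)
  have hT := ht.pull j g
  have hT' := ht'.pull j g
  have hv' := congrArg (fv j) hs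
  rw [map_add, map_nsmul, map_nsmul, map_τ, map_τ, fv_add, fv_nsmul, fv_nsmul, fv_τ, fv_τ] at hv'
  have h0 : W'.left.presheaf.germ ⊤ z.pt trivial (pg g t ^ k * pg g t' ^ l - gmVal X s) = 0 := by
    refine IsEqn.germ_eq_zero hT (y := z.pt) trivial hzy (V := ⊤) trivial _ (res_oR_eq_zero j ?_)
    show (compBc j W').left.appTop (pg g t ^ k * pg g t' ^ l - gmVal X s) = 0
    rw [map_sub, map_mul, map_pow, map_pow]
    exact sub_eq_zero.2 hv'.symm
  have hu : IsUnit (gmVal X s) := Units.isUnit _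
  rw [map_sub, sub_eq_zero, map_mul, map_pow, map_pow] at h0
  obtain ⟨h1, h2⟩ := IsUnit.mul_iff.1 (h0 ▸ hu.map (W'.left.presheaf.germ ⊤ z.pt trivial).hom)
  constructor
  · exact by_contra fun hk => (IsLocalRing.mem_maximalIdeal _).1 (hT.2 z.pt trivial hzy).1
      ((isUnit_pow_iff hk).1 h1)
  · exact by_contra fun hk => (IsLocalRing.mem_maximalIdeal _).1 (hT'.2 z.pt trivial hzy).1
      ((isUnit_pow_iff hk).1 h2)

theorem eq_zero_of_zsmul (h : Cod1 j.opensRange) [EtCoh.BCCont j] {W : X.Etale} {t : Γ(W.left, ⊤)}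
    (ht : IsEq j W t) (v : Fib ξ W) (hv : v.pt ∉ oR j W) {m : ℤ}
    (he : m • germ ξ (Qt j) W v ((πq j).hom.app (op W) (τ j ht)) = 0) : m = 0 := by
  have h0 : m.natAbs • germ ξ (Qt j) W v ((πq j).hom.app (op W) (τ j ht)) = 0 := by
    rcases Int.natAbs_eq m with hm | hm <;> rw [hm] at he
    · rwa [natCast_zsmul] at he
    · rwa [neg_zsmul, natCast_zsmul, neg_eq_zero] at he
  exact Int.natAbs_eq_zero.1 (eq_zero_of_combination j h ht ht v hv (k := m.natAbs) (l := 0)
    (by rw [h0, zero_smul, add_zero])).1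

end Germs

/-- Two equations give the same class. -/
theorem π_τ_eq (h : Cod1 j.opensRange) [EtCoh.BCCont j] {W : X.Etale} {t t' : Γ(W.left, ⊤)} (ht : IsEq j W t)
    (ht' : IsEq j W t') : (πq j).hom.app (op W) (τ j ht) = (πq j).hom.app (op W) (τ j ht') := by
  refine eq_of_germ (Qt j) _ _ fun Ω _ _ ξ v => ?_
  by_cases hv : v.pt ∈ oR j W
  · rw [germ_πq_of_mem j v hv, germ_πq_of_mem j v hv]
  obtain ⟨m, hm⟩ := exists_order j h ht' v hv (τ j ht)
  obtain ⟨l, hl⟩ := exists_order j h ht v hv (τ j ht')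
  let a := germ ξ (Qt j) W v ((πq j).hom.app (op W) (τ j ht))
  let b := germ ξ (Qt j) W v ((πq j).hom.app (op W) (τ j ht'))
  change a = m • b at hm
  change b = l • a at hl
  show a = b
  have e : (m * l - 1) • a = 0 := by rw [sub_zsmul, one_zsmul, mul_zsmul, ← hl, ← hm, add_neg_cancel]
  have hml : m * l = 1 := sub_eq_zero.1 (eq_zero_of_zsmul j h ht v hv e)
  rcases Int.eq_one_or_neg_one_of_mul_eq_one hml with rfl | rfl
  · rw [hm, one_zsmul]
  · exfalso
    have e' : (1 : ℕ) • a + (1 : ℕ) • b = 0 := by rw [one_smul, one_smul, hm, neg_one_zsmul, neg_add_cancel]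
    exact one_ne_zero (eq_zero_of_combination j h ht ht' v hv e').1

/-- The class of the divisor. -/
theorem exists_class (h : Cod1 j.opensRange) [EtCoh.BCCont j] :
    ∃ q : ToType ((Qt j).obj.obj (op (EtCoh.top X))), ∀ (W : X.Etale) (t : Γ(W.left, ⊤)) (ht : IsEq j W t),
      (Qt j).obj.map ((EtCore.topIsTerminal X).from W).op q = (πq j).hom.app (op W) (τ j ht) := by
  let hT := EtCore.topIsTerminal X
  choose V g hg t ht hx using fun x : X => exists_eq j h (EtCoh.top X) x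
  have hmem : Sieve.ofArrows V g ∈ X.smallEtaleTopology (EtCoh.top X) := by
    rw [Scheme.ofArrows_mem_smallEtaleTopology_iff]
    exact Set.eq_univ_of_forall fun y => Set.mem_iUnion.2 ⟨y, hx y⟩
  have hsh : (Presieve.ofArrows V g).IsSheafFor ((Qt j).obj ⋙ forget AddCommGrpCat.{u + 1}) := by
    rw [Presieve.isSheafFor_iff_generate]
    exact ((isSheaf_iff_isSheaf_of_type _ _).1
      (GrothendieckTopology.HasSheafCompose.isSheaf (Qt j).obj (Qt j).property)) _ hmem
  obtain ⟨q, hq, -⟩ := (Presieve.isSheafFor_arrows_iff _ _).1 hsh (fun x => (πq j).hom.app (op (V x)) (τ j (ht x)))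
    fun x x' Z p p' _ => by
      show (Qt j).obj.map p.op _ = (Qt j).obj.map p'.op _
      rw [← NatTrans.naturality_apply (πq j).hom p.op, ← NatTrans.naturality_apply (πq j).hom p'.op, map_τ, map_τ]
      exact π_τ_eq j h _ _
  refine ⟨q, fun W t' ht' => eq_of_germ (Qt j) _ _ fun Ω _ _ ξ v => ?_⟩
  obtain ⟨u⟩ := exists_fib_of_range ξ (U := V (W.hom.base v.pt)) (by
    obtain ⟨y, hy⟩ := hx (W.hom.base v.pt)
    refine ⟨y, ?_⟩
    rw [← MorphismProperty.Over.w (g (W.hom.base v.pt))]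
    show (EtCoh.top X).hom.base ((g (W.hom.base v.pt)).left.base y) = ξ.base default
    rw [hy]
    exact congrArg (fun f : Spec (CommRingCat.of Ω) ⟶ X => f.base default) v.w)
  obtain ⟨⟨Z, z⟩, h₁, h₂, -⟩ := IsCofilteredOrEmpty.cone_objs ((pt ξ).fiber.elementsMk W v)
    ((pt ξ).fiber.elementsMk (V (W.hom.base v.pt)) u)
  rw [← show Fib.map h₁.1 z = v from h₁.2, ← germ_res_apply, ← germ_res_apply,
    ← NatTrans.naturality_apply (πq j).hom h₁.1.op, map_τ, map_map,
    show h₁.1 ≫ hT.from W = h₂.1 ≫ g (W.hom.base v.pt) from hT.hom_ext _ _, ← map_map,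
    show (Qt j).obj.map (g (W.hom.base v.pt)).op q = (πq j).hom.app _ (τ j (ht _)) from hq _,
    ← NatTrans.naturality_apply (πq j).hom h₂.1.op, map_τ]
  exact congrArg _ (π_τ_eq j h _ _)

/-- The quotient vanishes over `U`. -/
theorem subsingleton_Qt {W : X.Etale} (hW : Set.range W.hom.base ⊆ (j.opensRange : Set X)) :
    Subsingleton ((Qt j).obj.obj (op W)) := by
  refine ⟨fun a b => eq_of_germ (Qt j) a b fun Ω _ _ ξ v => ?_⟩
  suffices h0 : ∀ c, germ ξ (Qt j) W v c = 0 by rw [h0, h0]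
  intro c
  obtain ⟨p, hp⟩ := (AddCommGrpCat.epi_iff_surjective _).1
    ((epi_iff_stalks (A := AddCommGrpCat.{u + 1}) (πq j)).1 inferInstance Ω ξ) (germ ξ (Qt j) W v c)
  obtain ⟨W', g, z, f, hz, rfl⟩ := exists_germ_below ξ p W v
  rw [← hp, germ_natural_apply]
  refine germ_πq_of_mem j z ?_ f
  show W'.hom.base z.pt ∈ (j.opensRange : Set X)
  rw [← MorphismProperty.Over.w g]
  exact hW ⟨_, rfl⟩

section Const

variable {D : Scheme.{u}} (i : D ⟶ X) [EtCoh.BCCont i]

theorem stalkPull_germ' {F : EtCoh.Ab X} {Ω : Type u} [Field Ω] [IsSepClosed Ω]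
    (ξ : Spec (CommRingCat.of Ω) ⟶ D) (W : X.Etale) (v : Fib ξ ((EtCoh.bc i).obj W))
    (s : ToType (F.obj.obj (op W))) :
    (stalkPull i ξ AddCommGrpCat.{u + 1}).hom.app F (germ (ξ ≫ i) F W (v.proj i ξ) s) =
      germ ξ ((EtCoh.pull i).obj F) ((EtCoh.bc i).obj W) v
        (((EtCoh.pullPushAdj i).unit.app F).hom.app (op W) s) := by
  have e := germ_stalkPull i ξ AddCommGrpCat.{u + 1} F W (v.proj i ξ)
  rw [Fib.lift_proj] at e
  rw [← ConcreteCategory.comp_apply, e]
  rfl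

/-- The quotient restricted to the divisor is the constant sheaf `ℤ`. -/
theorem nonempty_iso_pull (h : Cod1 j.opensRange) [EtCoh.BCCont j]
    (hi : Set.range i.base ⊆ ((j.opensRange : Set X))ᶜ) :
    Nonempty ((EtLocCohLib.cK D).obj (AddCommGrpCat.of (ULift.{u + 1} ℤ)) ≅ (EtCoh.pull i).obj (Qt j)) := by
  obtain ⟨q, hq⟩ := exists_class j h
  let hT := EtCore.topIsTerminal X
  let hTD : IsTerminal ((EtCoh.bc i).obj (EtCoh.top X)) := EtCore.bcTopIsTerminal i
  let G := (EtCoh.pull i).obj (Qt j)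
  let e₀ : EtCoh.top D ⟶ (EtCoh.bc i).obj (EtCoh.top X) := hTD.from _
  let q₀ : ToType (G.obj.obj (op (EtCoh.top D))) :=
    G.obj.map e₀.op (((EtCoh.pullPushAdj i).unit.app (Qt j)).hom.app (op (EtCoh.top X)) q)
  refine EtLocCohLib.nonempty_iso_cK_of_isCst (η := intHom q₀) ?_
  intro Ω _ _ ξ u
  rw [← isIso_iff_of_reflects_iso _ (forget AddCommGrpCat.{u + 1}), isIso_iff_bijective]
  let u₁ := (u.map e₀).proj i ξ
  let S := (stalkPull i ξ AddCommGrpCat.{u + 1}).hom.app (Qt j)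
  have hb := ConcreteCategory.bijective_of_isIso S
  have he : ∀ m, (intHom q₀ ≫ germ ξ G (EtCoh.top D) u) m =
      S (m.down • germ (ξ ≫ i) (Qt j) (EtCoh.top X) u₁ q) := fun m => by
    rw [ConcreteCategory.comp_apply, map_zsmul]
    show germ ξ G (EtCoh.top D) u (m.down • q₀) = _
    rw [map_zsmul, germ_res_apply, stalkPull_germ']
  have hnR : ∀ {W : X.Etale} (w : Fib (ξ ≫ i) W), w.pt ∉ oR j W := fun {W} w hw => by
    have e : W.hom.base w.pt = i.base (ξ.base default) :=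
      congrArg (fun f : Spec (CommRingCat.of Ω) ⟶ X => f.base default) w.w
    exact hi ⟨_, e.symm⟩ hw
  have hloc : ∀ {W : X.Etale} (g : W ⟶ EtCoh.top X) (w : Fib (ξ ≫ i) W), w.map g = u₁ →
      ∃ (W' : X.Etale) (g' : W' ⟶ W) (w' : Fib (ξ ≫ i) W') (t : Γ(W'.left, ⊤)) (ht : IsEq j W' t), w'.map g' = w ∧
        germ (ξ ≫ i) (Qt j) (EtCoh.top X) u₁ q = germ (ξ ≫ i) (Qt j) W' w' ((πq j).hom.app (op W') (τ j ht)) := by
    intro W g w hw
    obtain ⟨W', g', hg', t, ht, ⟨y, hy⟩⟩ := exists_eq j h W w.pt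
    haveI := etale_left g'
    obtain ⟨l, hl, -⟩ := Scheme.exists_fac_of_etale_of_isSepClosed g'.left w.hom y hy
    let w' : Fib (ξ ≫ i) W' := Fib.mk l (by rw [← MorphismProperty.Over.w g', ← Category.assoc, hl, Fib.w])
    have hw' : w'.map g' = w := Fib.ext ((Fib.map_hom g' w').trans hl)
    refine ⟨W', g', w', t, ht, hw', ?_⟩
    rw [← hw, ← hw', ← hq W' t ht, ← germ_res_apply, ← germ_res_apply, map_map, hT.hom_ext (g' ≫ g) (hT.from W')]
  constructor
  · intro a b hab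
    have h' := hb.1 ((he a).symm.trans (hab.trans (he b)))
    rw [← sub_eq_zero, ← sub_smul] at h'
    obtain ⟨W', g', w', t, ht, -, hqw⟩ := hloc (𝟙 _) u₁ (Fib.ext ((Fib.map_hom (𝟙 _) u₁).trans (Category.comp_id _)))
    rw [hqw] at h'
    exact ULift.ext _ _ (sub_eq_zero.1 (eq_zero_of_zsmul j h ht w' (hnR w') h'))
  · intro p
    obtain ⟨p', rfl⟩ := hb.2 p
    obtain ⟨p'', hp''⟩ := (AddCommGrpCat.epi_iff_surjective _).1
      ((epi_iff_stalks (A := AddCommGrpCat.{u + 1}) (πq j)).1 inferInstance Ω (ξ ≫ i)) p'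
    obtain ⟨W, g, w, f, hw, rfl⟩ := exists_germ_below (ξ ≫ i) p'' (EtCoh.top X) u₁
    obtain ⟨W', g', w', t, ht, hw', hqw⟩ := hloc g w hw
    obtain ⟨m, hm⟩ := exists_order j h ht w' (hnR w') ((Tp j).obj.map g'.op f)
    refine ⟨⟨m⟩, (he ⟨m⟩).trans (congrArg S ?_)⟩
    rw [hqw, ← hp'', germ_natural_apply, ← hw', ← germ_res_apply, ← NatTrans.naturality_apply (πq j).hom g'.op, hm]

end Const

end PurMuLib
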