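import Groth.Agent.PurMuLib.Chart
import Groth.Agent.EtLocCohLib.Local
import Groth.Agent.H90Lib.PicH1
import Groth.Agent.EtShLib.JContAll

/-!
# Sections of `G_m` on opens of étale schemes, and depth one
-/

set_option autoImplicit false
set_option linter.unusedSectionVars false
set_option linter.style.haveILetI false
set_option backward.isDefEq.respectTransparency false
set_option backward.isDefEq.respectTransparency.types false
set_option synthInstance.maxHeartbeats 400000
set_option maxHeartbeats 1000000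

universe u

open CategoryTheory CategoryTheory.Limits AlgebraicGeometry Opposite
open Groth.Agent.EtShLib EtSliceLib MuConstLib H90Lib

noncomputable section

namespace PurMuLib

variable {X : Scheme.{u}}

instance etale_hom (W : X.Etale) : AlgebraicGeometry.Etale W.hom := W.prop

instance jCont_hom (W : X.Etale) : EtShriek.JCont W.hom := jCont W.hom

/-- A sheaf restricted to an étale scheme. -/
abbrev rs (W : X.Etale) (F : EtCoh.Ab X) : EtCoh.Ab W.left := (EtShriek.restrAlong W.hom).obj F

/-- An open of an étale scheme as an étale scheme. -/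
abbrev oo (W : X.Etale) (O : W.left.Opens) : X.Etale := (EtShriek.compEtale W.hom).obj (ov O)

/-- Its inclusion. -/
abbrev ooTo (W : X.Etale) (O : W.left.Opens) : oo W O ⟶ W := MorphismProperty.Over.homMk O.ι rfl

instance isOpenImmersion_ooTo (W : X.Etale) (O : W.left.Opens) : IsOpenImmersion (ooTo W O).left :=
  inferInstanceAs (IsOpenImmersion O.ι)

/-- Sections over the whole as sections over an open. -/
def toO {F : EtCoh.Ab X} {W : X.Etale} (O : W.left.Opens) :
    ToType (F.obj.obj (op W)) →+ ToType ((rs W F).obj.obj (op (ov O))) := (F.obj.map (ooTo W O).op).hom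

theorem toO_rsv {F : EtCoh.Ab X} {W : X.Etale} {O O' : W.left.Opens} (h : O' ≤ O) (s : ToType (F.obj.obj (op W))) :
    rsv (rs W F) h (toO O s) = toO O' s := by
  show F.obj.map ((EtShriek.compEtale W.hom).map (ovHom h)).op (F.obj.map (ooTo W O).op s) = F.obj.map (ooTo W O').op s
  rw [map_map]
  have e : (EtShriek.compEtale W.hom).map (ovHom h) ≫ ooTo W O = ooTo W O' :=
    MorphismProperty.Over.Hom.ext (W.left.homOfLE_ι h)
  rw [e]

/-- The function of a section of `G_m` over an open. -/
abbrev val' {W : X.Etale} (O : W.left.Opens) (s : ToType ((rs W (EtCoh.Gm X)).obj.obj (op (ov O)))) : Γ(W.left, O) :=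
  uVal (X := W.left) O s

theorem val'_toO {W : X.Etale} (O : W.left.Opens) (s : ToType ((EtCoh.Gm X).obj.obj (op W))) :
    val' O (toO O s) = W.left.presheaf.map (homOfLE (le_top : O ≤ ⊤)).op (gmVal X s) := by
  have e : O.ι.appTop ≫ O.topIso.hom = W.left.presheaf.map (homOfLE (le_top : O ≤ ⊤)).op := by
    rw [Scheme.Opens.ι_appTop]
    show W.left.presheaf.map _ ≫ W.left.presheaf.map _ = _
    rw [← Functor.map_comp]
    rfl
  exact congrArg (fun f : Γ(W.left, ⊤) ⟶ Γ(W.left, O) => f.hom (gmVal X s)) e

theorem toO_top_injective {F : EtCoh.Ab X} {W : X.Etale} (O : W.left.Opens) (hO : O = ⊤) :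
    Function.Injective (toO (F := F) (W := W) O) := by
  subst hO
  haveI : IsIso (ooTo W (⊤ : W.left.Opens)) := by
    refine ⟨MorphismProperty.Over.homMk W.left.topIso.inv (W.left.topIso.inv_hom_id_assoc W.hom), ?_, ?_⟩
    · exact MorphismProperty.Over.Hom.ext W.left.topIso.hom_inv_id
    · exact MorphismProperty.Over.Hom.ext W.left.topIso.inv_hom_id
  exact (ConcreteCategory.bijective_of_isIso (F.obj.map (ooTo W (⊤ : W.left.Opens)).op)).1

variable {U : Scheme.{u}} (j : U ⟶ X) [IsOpenImmersion j]

/-- The part over `U`. -/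
abbrev oR (W : X.Etale) : W.left.Opens := W.hom ⁻¹ᵁ j.opensRange

theorem range_iU_oR (W : X.Etale) : Set.range (EtLocCohLib.iU j W).left.base = (oR j W : Set W.left) := by
  rw [EtLocCohLib.range_iU]; rfl

theorem map_iU_eq_zero_iff (F : EtCoh.Ab X) (W : X.Etale) (s : ToType (F.obj.obj (op W))) :
    F.obj.map (EtLocCohLib.iU j W).op s = 0 ↔ toO (oR j W) s = 0 := by
  have hr : Set.range (ooTo W (oR j W)).left.base = (oR j W : Set W.left) := (oR j W).range_ι
  exact ⟨EtLocCohLib.map_eq_zero_of_range_subset (EtLocCohLib.iU j W) (ooTo W (oR j W))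
      ((hr.trans (range_iU_oR j W).symm).subset),
    EtLocCohLib.map_eq_zero_of_range_subset (ooTo W (oR j W)) (EtLocCohLib.iU j W)
      (((range_iU_oR j W).trans hr.symm).subset)⟩

/-- No sections of `G_m` supported on the divisor. -/
theorem isZero_secSupp_Gm (h : Cod1 j.opensRange) [EtCoh.BCCont j] :
    IsZero ((EtDual.secSupp j).obj (EtCoh.Gm X)) := by
  rw [EtLocCohLib.isZero_secSupp_iff]
  intro W s hs
  have h0 := (map_iU_eq_zero_iff j _ W s).1 hs
  refine gmVal_injective X (?_ : gmVal X s = gmVal X (0 : ToType ((EtCoh.Gm X).obj.obj (op W))))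
  rw [gmVal_zero]
  have hR : W.left.presheaf.map (homOfLE (le_top : oR j W ≤ ⊤)).op (gmVal X s - 1) = 0 := by
    rw [map_sub, map_one, ← val'_toO, h0, sub_eq_zero]
    exact uVal_zero (X := W.left) (oR j W)
  refine sub_eq_zero.1 (TopCat.Presheaf.section_ext W.left.sheaf ⊤ _ _ fun y _ => ?_)
  rw [map_zero]
  show W.left.presheaf.germ ⊤ y trivial (gmVal X s - 1) = 0
  by_cases hy : y ∈ oR j W
  · rw [← W.left.presheaf.germ_res_apply (homOfLE (le_top : oR j W ≤ ⊤)) y hy, hR, map_zero]
  · haveI : IsRegularLocalRing (W.left.presheaf.stalk y) := h.regular_etale (Y := W.left) W.hom y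
    haveI := CommAlgDim.isDomain_of_isRegularLocalRing (W.left.presheaf.stalk y)
    obtain ⟨O, t, hyO, ht⟩ := h.eqn_etale (Y := W.left) W.hom y hy
    refine ht.germ_eq_zero hyO hy (V := ⊤) trivial _ ?_
    have e : W.left.presheaf.map (homOfLE (inf_le_left : (⊤ : W.left.Opens) ⊓ oR j W ≤ ⊤)).op =
        W.left.presheaf.map (homOfLE (le_top : oR j W ≤ ⊤)).op ≫
          W.left.presheaf.map (homOfLE (inf_le_right : (⊤ : W.left.Opens) ⊓ oR j W ≤ oR j W)).op := by
      rw [← Functor.map_comp]; rfl
    rw [e, CommRingCat.comp_apply, hR, map_zero]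

end PurMuLib
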