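import Groth.Agent.PurMuLib.Ext
import Groth.Agent.EtLocCohLib.Depth
import Groth.Agent.RDerLib.LeftExact

/-!
# The second local cohomology of `G_m` along a regular divisor vanishes
-/

set_option autoImplicit false
set_option linter.unusedSectionVars false
set_option linter.style.haveILetI false
set_option backward.isDefEq.respectTransparency false
set_option backward.isDefEq.respectTransparency.types false
set_option synthInstance.maxHeartbeats 400000
set_option maxHeartbeats 2000000

universe u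

open CategoryTheory CategoryTheory.Limits AlgebraicGeometry Opposite
open Groth.Agent.EtShLib EtSliceLib H90Lib

noncomputable section

namespace PurMuLib

variable {X U : Scheme.{u}} (j : U ⟶ X) [IsOpenImmersion j]

theorem epi_unit_quotient (h : Cod1 j.opensRange) {I C : EtCoh.Ab X} [Injective I] (ι : EtCoh.Gm X ⟶ I) (g : I ⟶ C)
    (w : ι ≫ g = 0) (hS : (ShortComplex.mk ι g w).ShortExact) [EtCoh.BCCont j] : Epi (EtDual.unitApp j C) := by
  haveI : AlgebraicGeometry.Etale j := inferInstance
  haveI := jCont j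
  let θ : (EtCoh.pull j).obj C ⟶ (EtShriek.restrAlong j).obj C := (restrTheta j).app C
  haveI : IsIso θ := NatIso.isIso_app_of_isIso (restrTheta j) C
  have hu : EtDual.unitApp j C ≫ (EtCoh.push j).map θ = (restrEta j).app C :=
    ((EtCoh.pullPushAdj j).homEquiv_unit (f := θ)).symm.trans (Equiv.apply_symm_apply _ _)
  suffices Epi ((restrEta j).app C) by
    rw [← IsIso.comp_inv_eq ((EtCoh.push j).map θ) |>.2 hu.symm]
    infer_instance
  rw [epi_iff_stalks]
  intro Ω _ _ ξ
  refine (AddCommGrpCat.epi_iff_surjective _).2 fun p => ?_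
  obtain ⟨W, v, t, rfl⟩ := exists_germ ξ p
  let P := (EtShriek.compEtale j).obj ((EtCoh.bc j).obj W)
  have hP : Set.range (compBc j W).left.base = (oR j W : Set W.left) := Scheme.Pullback.range_fst W.hom j
  haveI : IsOpenImmersion (compBc j W).left := inferInstanceAs (IsOpenImmersion (pullback.fst W.hom j))
  let k : oo W (oR j W) ⟶ P := MorphismProperty.Over.homMk
    (IsOpenImmersion.lift (compBc j W).left (oR j W).ι ((Scheme.Opens.range_ι _).subset.trans hP.symm.subset)) (by
      rw [← MorphismProperty.Over.w (compBc j W)]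
      exact (IsOpenImmersion.lift_fac_assoc _ _ _ _))
  have hk : k.left ≫ (compBc j W).left = (oR j W).ι := IsOpenImmersion.lift_fac _ _ _
  obtain ⟨O, hvO, d, hd⟩ := exists_ext j h ι g w hS W (C.obj.map k.op t) v.pt
  obtain ⟨l, hl, -⟩ := Scheme.exists_fac_of_etale_of_isSepClosed O.ι v.hom ⟨v.pt, hvO⟩ rfl
  let v' : Fib ξ (oo W O) := Fib.mk l (by
    show l ≫ O.ι ≫ W.hom = ξ
    rw [← Category.assoc, hl, Fib.w])
  have hv' : v'.map (ooTo W O) = v := Fib.ext ((Fib.map_hom (ooTo W O) v').trans hl)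
  refine ⟨germ ξ C (oo W O) v' d, (germ_natural_apply ξ ((restrEta j).app C) (oo W O) v' d).trans ?_⟩
  conv_rhs => rw [← hv']
  rw [← germ_res_apply]
  refine congrArg (germ ξ (((EtCoh.bc j).sheafPushforwardContinuous AddCommGrpCat.{u + 1} X.smallEtaleTopology U.smallEtaleTopology).obj ((EtShriek.restrAlong j).obj C)) (oo W O) v') ?_
  let E := (EtShriek.compEtale j).obj ((EtCoh.bc j).obj (oo W O))
  let m : E ⟶ P := (EtShriek.compEtale j).map ((EtCoh.bc j).map (ooTo W O))
  show C.obj.map (compBc j (oo W O)).op d = C.obj.map m.op t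
  have hm : m.left ≫ (compBc j W).left = (compBc j (oo W O)).left ≫ O.ι :=
    congrArg (fun f : E ⟶ W => f.left) (compBc_natural j (ooTo W O))
  have hsub : Set.range ((compBc j (oo W O)).left ≫ O.ι).base ⊆ ((O ⊓ oR j W : W.left.Opens) : Set W.left) := by
    rintro _ ⟨z, rfl⟩
    refine ⟨((compBc j (oo W O)).left.base z).2, ?_⟩
    rw [← hP, ← hm]
    exact ⟨m.left.base z, rfl⟩
  let r : E ⟶ oo W (O ⊓ oR j W) := MorphismProperty.Over.homMk
    (IsOpenImmersion.lift (O ⊓ oR j W).ι ((compBc j (oo W O)).left ≫ O.ι) (hsub.trans (Scheme.Opens.range_ι _).symm.subset)) (by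
      rw [← MorphismProperty.Over.w (compBc j (oo W O))]
      exact (IsOpenImmersion.lift_fac_assoc _ _ _ _).trans (Category.assoc _ _ _))
  have hr : r.left ≫ (O ⊓ oR j W).ι = (compBc j (oo W O)).left ≫ O.ι := IsOpenImmersion.lift_fac _ _ _
  have e1 : compBc j (oo W O) = r ≫ (EtShriek.compEtale W.hom).map (ovHom (inf_le_left : O ⊓ oR j W ≤ O)) := by
    refine MorphismProperty.Over.Hom.ext ((cancel_mono O.ι).1 ?_)
    show _ = (r.left ≫ W.left.homOfLE (inf_le_left : O ⊓ oR j W ≤ O)) ≫ O.ι
    rw [Category.assoc, Scheme.homOfLE_ι, hr]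
  have e2 : m = (r ≫ (EtShriek.compEtale W.hom).map (ovHom (inf_le_right : O ⊓ oR j W ≤ oR j W))) ≫ k := by
    refine MorphismProperty.Over.Hom.ext ((cancel_mono (compBc j W).left).1 ?_)
    show _ = ((r.left ≫ W.left.homOfLE (inf_le_right : O ⊓ oR j W ≤ oR j W)) ≫ k.left) ≫ (compBc j W).left
    rw [Category.assoc, hk, Category.assoc, Scheme.homOfLE_ι, hr, hm]
  rw [e1, e2, ← map_map, ← map_map, ← map_map]
  exact congrArg _ hd

/-- `H²_D(G_m) = 0`. -/
theorem isZero_locCoh_two_Gm (h : Cod1 j.opensRange) : IsZero ((EtDual.locCoh j 2).obj (EtCoh.Gm X)) := by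
  let S : ShortComplex (EtCoh.Ab X) := ShortComplex.mk (Injective.ι (EtCoh.Gm X))
    (cokernel.π (Injective.ι (EtCoh.Gm X))) (cokernel.condition _)
  have hS : S.ShortExact :=
    { exact := ShortComplex.exact_of_g_is_cokernel _ (cokernelIsCokernel (Injective.ι (EtCoh.Gm X))) }
  haveI := epi_unit_quotient j h S.f S.g S.zero hS
  obtain ⟨e⟩ := EtLocCohLib.nonempty_cokernel_iso j S.X₃ (InjectiveResolution.of S.X₃)
  refine Groth.Agent.RDerLib.isZero_X₁_succ (F := EtDual.secSupp j) hS 1
    (Functor.isZero_rightDerived_obj_injective_succ (EtDual.secSupp j) 1 (Injective.under (EtCoh.Gm X))) ?_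
  exact epi_of_target_iso_zero _ (((isZero_cokernel_of_epi _).of_iso e.symm).isoZero)

end PurMuLib
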